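import Cfsg.Agent.EqLemmas
import Cfsg.Agent.Lib.ChevBN.Facts
import Cfsg.Agent.Lib.ChevInvolOdd.Monomial

/-!
# The Weyl group as permutations of the roots

`pw`: the permutation of a word; linearity, invariance of the pairing, words as permutations of root subgroups.
-/

set_option autoImplicit false

namespace Cfsg.Agent.ChevInv

open Cfsg.Lie Cfsg.Lie.ChevalleyDatum Cfsg.Agent.Chev Cfsg.Agent.ChevBN Cfsg.Agent.ChevSt

variable {D : ChevalleyDatum} {M : List (List ℤ)} {d : ℤ} (hD : Good D) (hR : Roots D M d)

/-- A word as a map of root indices. -/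
def wlist (D : ChevalleyDatum) (l : List (Fin D.rank)) (r : ℕ) : ℕ := l.foldr (fun i q => wN D i.val q) r

theorem wlist_append (l l' : List (Fin D.rank)) (r : ℕ) :
    wlist D (l ++ l') r = wlist D l (wlist D l' r) := List.foldr_append

include hD in
theorem wlist_lt (l : List (Fin D.rank)) {r : ℕ} (hr : r < D.nroots) : wlist D l r < D.nroots := by
  induction l with
  | nil => exact hr
  | cons i l ih => exact refl_lt hD (hD.simple_lt i.val i.isLt) ih

/-- A fundamental reflection as a permutation of the roots. -/
def sperm (i : Fin D.rank) : Equiv.Perm (Fin D.nroots) :=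
  Function.Involutive.toPerm (fun r => ⟨wN D i.val r.val, refl_lt hD (hD.simple_lt i.val i.isLt) r.isLt⟩)
    fun r => Fin.ext (refl_refl hD (hD.simple_lt i.val i.isLt) r.isLt)

/-- The permutation of a word. -/
def pw (l : List (Fin D.rank)) : Equiv.Perm (Fin D.nroots) := (l.map (sperm hD)).prod

theorem pw_nil : pw hD ([] : List (Fin D.rank)) = 1 := rfl

theorem pw_append (l l' : List (Fin D.rank)) : pw hD (l ++ l') = pw hD l * pw hD l' := by
  rw [pw, List.map_append, List.prod_append]; rfl

theorem pw_apply (l : List (Fin D.rank)) (r : Fin D.nroots) : (pw hD l r).val = wlist D l r.val := by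
  induction l with
  | nil => rfl
  | cons i l ih =>
    show (sperm hD i (pw hD l r)).val = wN D i.val (wlist D l r.val)
    rw [← ih]
    rfl

theorem pw_reverse (l : List (Fin D.rank)) : pw hD l.reverse = (pw hD l)⁻¹ := by
  induction l with
  | nil => simp [pw_nil]
  | cons i l ih =>
    rw [List.reverse_cons, pw_append, ih, show i :: l = [i] ++ l from rfl, pw_append, _root_.mul_inv_rev]
    congr 1

/-- The Weyl group on the roots. -/
def weyl : Subgroup (Equiv.Perm (Fin D.nroots)) where
  carrier := {w | ∃ l, pw hD l = w}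
  one_mem' := ⟨[], rfl⟩
  mul_mem' := by rintro _ _ ⟨l, rfl⟩ ⟨l', rfl⟩; exact ⟨l ++ l', pw_append hD l l'⟩
  inv_mem' := by rintro _ ⟨l, rfl⟩; exact ⟨l.reverse, pw_reverse hD l⟩

include hD hR in
/-- A linear function composed with a word is linear. -/
theorem exists_lin_comp {f : ℕ → ℤ} (hf : IsLin D f) (l : List (Fin D.rank)) :
    ∃ g, IsLin D g ∧ ∀ q < D.nroots, g q = f (wlist D l q) := by
  obtain ⟨g, hg, e⟩ := lin_comp hD hR ℚ l hf
  refine ⟨g, hg, fun q hq => ?_⟩
  rw [e ⟨q, hq⟩]
  congr 1
  induction l with
  | nil => rfl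
  | cons i l ih =>
    show wN D i.val ((chevRGD hD hR ℚ).ww l ⟨q, hq⟩).val = wN D i.val (wlist D l q)
    congr 1
    clear e ih hg
    induction l with
    | nil => rfl
    | cons j l ih => exact congrArg (wN D j.val) ih

include hD hR in
/-- Linear functions composed with words agree if they do on the fundamental roots. -/
theorem lin_wlist_ext {f g : ℕ → ℤ} (hf : IsLin D f) (hg : IsLin D g) (l l' : List (Fin D.rank))
    (h : ∀ i < D.rank, f (wlist D l (D.simple i)) = g (wlist D l' (D.simple i))) {q : ℕ} (hq : q < D.nroots) :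
    f (wlist D l q) = g (wlist D l' q) := by
  obtain ⟨f', hf', ef⟩ := exists_lin_comp hD hR hf l
  obtain ⟨g', hg', eg⟩ := exists_lin_comp hD hR hg l'
  rw [← ef q hq, ← eg q hq]
  exact lin_ext hD hR hf' hg' (fun i hi => by rw [ef _ (hD.simple_lt i hi), eg _ (hD.simple_lt i hi), h i hi]) hq

include hD hR in
/-- A word is determined by its values at the fundamental roots. -/
theorem wlist_ext {l l' : List (Fin D.rank)}
    (h : ∀ i < D.rank, wlist D l (D.simple i) = wlist D l' (D.simple i)) {q : ℕ} (hq : q < D.nroots) :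
    wlist D l q = wlist D l' q :=
  hR.root_ext (wlist_lt hD l hq) (wlist_lt hD l' hq) fun k _ =>
    lin_wlist_ext hD hR (isLin_co hD M k) (isLin_co hD M k) l l' (fun i hi => by rw [h i hi]) hq

include hD hR in
theorem pw_ext {l l' : List (Fin D.rank)}
    (h : ∀ i < D.rank, wlist D l (D.simple i) = wlist D l' (D.simple i)) : pw hD l = pw hD l' :=
  Equiv.ext fun r => Fin.ext (by rw [pw_apply, pw_apply, wlist_ext hD hR h r.isLt])

/-- The coroots are permuted by the fundamental reflections. -/
def CorootOK (D : ChevalleyDatum) : Bool :=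
  decide (∀ i : Fin D.rank, ∀ r : Fin D.nroots, ∀ j : Fin D.rank,
    (D.coroot.getD (wN D i.val r.val) #[]).getD j.val 0 = (D.coroot.getD r.val #[]).getD j.val 0 -
      if j = i then ∑ m : Fin D.rank, D.cartan m.val (D.simple i.val) * (D.coroot.getD r.val #[]).getD m.val 0
      else 0)

include hD in
/-- The pairing is invariant under words. -/
theorem pairing_wlist (hC : CorootOK D = true) (l : List (Fin D.rank)) {r s : ℕ} (hr : r < D.nroots)
    (hs : s < D.nroots) : D.pairing (wlist D l r) (wlist D l s) = D.pairing r s := by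
  induction l with
  | nil => rfl
  | cons i l ih =>
    rw [← ih]
    set a := wlist D l r with ha
    set b := wlist D l s with hb
    have ha' : a < D.nroots := wlist_lt hD l hr
    have hb' : b < D.nroots := wlist_lt hD l hs
    show D.pairing (wN D i.val a) (wN D i.val b) = D.pairing a b
    rw [pairing_eq_sum, pairing_eq_sum]
    set c : Fin D.rank → ℤ := fun j => (D.coroot.getD a #[]).getD j.val 0 with hc
    set S := ∑ m : Fin D.rank, D.cartan m.val (D.simple i.val) * c m with hS
    have hstep : ∀ j : Fin D.rank, D.cartan j.val (wN D i.val b) =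
        D.cartan j.val b - D.cartan i.val b * D.cartan j.val (D.simple i.val) := fun j => by
      rw [wN, (isLin_cartan hD j.isLt).refl hD (hD.simple_lt _ i.isLt) hb', pairing_simple hD i.isLt]
    have h2 : D.cartan i.val (D.simple i.val) = 2 := by
      rw [← pairing_simple hD i.isLt]
      exact hD.pairing_self _ (hD.simple_lt _ i.isLt)
    have hget := fun j => of_decide_eq_true hC i ⟨a, ha'⟩ j
    calc ∑ j : Fin D.rank, (D.coroot.getD (wN D i.val a) #[]).getD j.val 0 * D.cartan j.val (wN D i.val b)
        = ∑ j : Fin D.rank, (c j * D.cartan j.val b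
            - D.cartan i.val b * (D.cartan j.val (D.simple i.val) * c j)
            - if j = i then S * (D.cartan i.val b - D.cartan i.val b * 2) else 0) := by
          refine Finset.sum_congr rfl fun j _ => ?_
          rw [hget, hstep]
          by_cases hj : j = i
          · subst hj
            rw [if_pos rfl, if_pos rfl, h2]
            simp only [hS, hc]
            ring
          · rw [if_neg hj, if_neg hj]
            simp only [hc]
            ring
      _ = ∑ j : Fin D.rank, c j * D.cartan j.val b := by
          rw [Finset.sum_sub_distrib, Finset.sum_sub_distrib, ← Finset.mul_sum, ← hS,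
            Finset.sum_ite_eq' Finset.univ i, if_pos (Finset.mem_univ i)]
          ring

variable {F : Type*} [Field F]

include hD hR in
theorem ww_eq_pw (l : List (Fin D.rank)) (r : Fin D.nroots) :
    (chevRGD hD hR F).ww l r = pw hD l r := by
  induction l with
  | nil => rfl
  | cons i l ih =>
    show (chevRGD hD hR F).w i ((chevRGD hD hR F).ww l r) = sperm hD i (pw hD l r)
    rw [ih]
    rfl

include hD hR in
/-- The representative of a word permutes the root subgroups by the word. -/
theorem perms_nw (l : List (Fin D.rank)) :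
    ChevInvolOdd.Perms hD ((chevRGD hD hR F).nw l) (wlist D l) := ChevInvolOdd.perms_word hD hR l

include hD hR in
/-- Words with the same permutation have representatives differing by a diagonal element. -/
theorem exists_diag_of_pw_eq {l l' : List (Fin D.rank)} (h : pw hD l = pw hD l') :
    ∃ k ∈ D.diagonalSubgroup F, (chevRGD hD hR F).nw l = k * (chevRGD hD hR F).nw l' := by
  set R := chevRGD hD hR F
  set x := R.nw l * (R.nw l')⁻¹ with hx
  refine ⟨x, ChevInvolOdd.mem_diag_of_perms hD hR (mul_mem (R.nw_mem_N l) (inv_mem (R.nw_mem_N l'))) ?_,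
    by rw [hx, inv_mul_cancel_right]⟩
  intro q hq
  refine ⟨hq, ?_⟩
  set p : Fin D.nroots := (pw hD l').symm ⟨q, hq⟩ with hp
  have hpq : wlist D l' p.val = q := by
    rw [← pw_apply hD, hp, Equiv.apply_symm_apply]
  have hpq' : wlist D l p.val = q := by
    rw [← pw_apply hD, h, hp, Equiv.apply_symm_apply]
  obtain ⟨-, c, hc, hcu⟩ := perms_nw hD hR (F := F) l p.val p.isLt
  obtain ⟨-, c', hc', hcu'⟩ := perms_nw hD hR (F := F) l' p.val p.isLt
  rw [hpq'] at hcu
  rw [hpq] at hcu'
  refine ⟨c / c', div_ne_zero hc hc', fun u => ?_⟩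
  show x * xg hD F q u * x⁻¹ = xg hD F q (c / c' * u)
  have e : xg hD F q u = R.nw l' * xg hD F p.val (u / c') * (R.nw l')⁻¹ := by
    rw [hcu']; congr 1; field_simp
  rw [e, hx, show R.nw l * (R.nw l')⁻¹ * (R.nw l' * xg hD F p.val (u / c') * (R.nw l')⁻¹) *
    (R.nw l * (R.nw l')⁻¹)⁻¹ = R.nw l * xg hD F p.val (u / c') * (R.nw l)⁻¹ by group, hcu]
  congr 1
  field_simp

end Cfsg.Agent.ChevInv
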