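import Cfsg.Agent.EqLemmas
import Cfsg.Agent.Lib.ChevInv.Perm
import Cfsg.Agent.Lib.ChevLang.SylCert

/-!
# Certificates for the stabilisers of involutory toral characters

`InvCert`: the parities `bits`, the fundamental roots `pi` of the even roots with words and packed tables for their
reflections, decompositions of the positive even roots, and coset representatives along a chain of reflection
subgroups. `stab_eq_closure` and `sum_stab` are the conclusions.
-/

set_option autoImplicit false

namespace Cfsg.Agent.ChevInv

open Cfsg.Lie Cfsg.Lie.ChevalleyDatum Cfsg.Agent.Chev Cfsg.Agent.ChevBN Cfsg.Agent.ChevSt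
open Cfsg.Agent.ChevLang (pev peq pmul pprod xpow1)

/-- A step of the chain: a linear function (in root coordinates), representatives as words in the reflections, their
lengths, and the transition table. -/
structure Level where
  f : List ℤ
  reps : List (List ℕ)
  lens : List ℕ
  trans : List (List (ℕ × ℕ))

/-- The data. -/
structure InvCert where
  bits : List ℤ
  CO : List (List ℤ)
  posMask : ℕ
  evenMask : ℕ
  pi : List ℕ
  words : List (List ℕ)
  T : List ℕ
  dec : List (ℕ × ℕ × ℕ)
  gs : List ℤ
  levels : List Level

namespace InvCert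

variable (C : InvCert) (D : ChevalleyDatum)

/-- The parity function. -/
def par (q : ℕ) : ℤ := ∑ i : Fin D.rank, C.bits.getD i.val 0 * D.cartan i.val q

/-- A linear combination of the tabulated root coordinates. -/
def lc (v : List ℤ) (q : ℕ) : ℤ :=
  ((List.range D.rank).map fun a => v.getD a 0 * (C.CO.getD q []).getD a 0).sum

/-- Membership in the positive even roots. -/
def inS (q : ℕ) : Bool := C.posMask.testBit q && C.evenMask.testBit q

/-- The positive even roots. -/
def sp : Finset (Fin D.nroots) := Finset.univ.filter fun q => C.inS q.val = true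

/-- The fundamental roots of the even roots. -/
def root (j : ℕ) : ℕ := C.pi.getD j 0

/-- The packed table of a reflection. -/
def tl (j x : ℕ) : ℕ := (C.T.getD j 0 >>> (8 * x)) % 256

/-- A word in the reflections on root indices. -/
def app (w : List ℕ) (x : ℕ) : ℕ := w.foldr C.tl x

/-- The word of a reflection. -/
def word (j : ℕ) : List (Fin D.rank) :=
  (C.words.getD j []).filterMap fun i => if h : i < D.rank then some ⟨i, h⟩ else none

/-- The word of a word in the reflections. -/
def wordOf (w : List ℕ) : List (Fin D.rank) := w.flatMap (C.word D)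

/-- The candidates for the image of a fundamental root under a symmetry. -/
def cands (i : ℕ) : List ℕ :=
  (List.range D.nroots).filter fun q =>
    C.evenMask.testBit q == C.evenMask.testBit (D.simple i) && C.lc D C.gs q == C.lc D C.gs (D.simple i)

/-- The decompositions lead from the fundamental even roots to all positive even roots. -/
def decOK : List ℕ → List (ℕ × ℕ × ℕ) → Bool
  | known, [] => (List.range D.nroots).all fun q => !C.inS q || known.contains q
  | known, (q, a, b) :: L =>
    known.contains a && known.contains b && D.chainRoot a b 1 == some q && decOK (q :: known) L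

/-- No assignment of candidates to the fundamental roots keeps all pairings, other than the identical one. -/
def dfs : List ℕ → List ℕ → Bool
  | [], acc => acc == (List.range D.rank).map D.simple
  | i :: L, acc => (C.cands D i).all fun b =>
      !((List.range acc.length).all fun j => D.pairing (acc.getD j 0) b == D.pairing (D.simple j) (D.simple i) &&
        D.pairing b (acc.getD j 0) == D.pairing (D.simple i) (D.simple j)) || dfs L (acc ++ [b])

/-- The checks at step `k` of the chain. -/
def levelOK (k : ℕ) : Bool :=
  let L := C.levels.getD k ⟨[], [], [], []⟩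
  decide (∀ j : Fin D.rank, (j.val < k → C.lc D L.f (C.root j.val) = 0) ∧
    (k ≤ j.val → 0 < C.lc D L.f (C.root j.val))) &&
  (L.reps.getD 0 [0] == [] && L.lens.length == L.reps.length) &&
  decide (∀ a : Fin L.reps.length,
    (∀ s ∈ L.reps.getD a.val [], s ≤ k) ∧
    (∀ j : Fin k, C.posMask.testBit (C.app (L.reps.getD a.val []) (C.root j.val)) = true) ∧
    (Finset.univ.filter fun q : Fin D.nroots => C.inS q.val = true ∧
      C.posMask.testBit (C.app (L.reps.getD a.val []) q.val) = false).card = L.lens.getD a.val 0 ∧
    (∀ s : Fin (k + 1),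
      ((L.trans.getD a.val []).getD s.val (0, 0)).1 < L.reps.length ∧
      ((L.trans.getD a.val []).getD s.val (0, 0)).2 ≤ k ∧
      ∀ i : Fin D.rank, C.app (s.val :: L.reps.getD a.val []) (D.simple i.val) =
        C.app (L.reps.getD ((L.trans.getD a.val []).getD s.val (0, 0)).1 [] ++
          (match ((L.trans.getD a.val []).getD s.val (0, 0)).2 with
            | 0 => []
            | j + 1 => [j])) (D.simple i.val))) &&
  decide ((L.reps.map fun w => (List.range D.rank).map fun i =>
    C.lc D L.f (C.app w.reverse (D.simple i))).Nodup)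

/-- The length polynomial of a step. -/
def lenP (L : Level) : List ℤ := L.lens.foldr (fun n acc => ChevLang.padd (List.replicate n 0 ++ [1]) acc) []

end InvCert

/-- The checks on the data. -/
structure InvOK (C : InvCert) (D : ChevalleyDatum) (M : List (List ℤ)) (deg : List ℕ) : Prop where
  nroots : D.nroots ≤ 256
  coroot : CorootOK D = true
  tableCO : C.CO = (List.range D.nroots).map fun r => (List.range D.rank).map fun k => co D M k r
  pos : decide (∀ q : Fin D.nroots,
    C.posMask.testBit q.val = (List.range D.rank).all fun k => decide (0 ≤ (C.CO.getD q.val []).getD k 0)) = true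
  even : decide (∀ q : Fin D.nroots, C.evenMask.testBit q.val = decide (C.par D q.val % 2 = 0)) = true
  evenNeg : decide (∀ q : Fin D.nroots, C.evenMask.testBit (D.neg q.val) = C.evenMask.testBit q.val) = true
  root : decide (∀ j : Fin D.rank, C.root j.val < D.nroots ∧ C.inS (C.root j.val) = true) = true
  table : decide (∀ j : Fin D.rank, ∀ q : Fin D.nroots,
    C.tl j.val q.val = Chev.refl D (C.root j.val) q.val ∧
    C.evenMask.testBit (C.tl j.val q.val) = C.evenMask.testBit q.val ∧
    (C.inS q.val = true → q.val ≠ C.root j.val → C.inS (C.tl j.val q.val) = true)) = true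
  wordOK : decide (∀ j i : Fin D.rank,
    wlist D (C.word D j.val) (D.simple i.val) = C.tl j.val (D.simple i.val)) = true
  decs : C.decOK D ((List.range D.rank).map C.root) C.dec = true
  gsum : decide (∀ i : Fin D.rank,
    ∑ s ∈ C.sp D, D.pairing s.val (D.simple i.val) = C.gs.getD i.val 0) = true
  rigid : C.dfs D (List.range D.rank) [] = true
  chain : (List.range D.rank).all (C.levelOK D) = true
  len : C.levels.length = D.rank
  poly : peq (pmul (pprod (List.replicate D.rank (xpow1 1))) (pprod (C.levels.map InvCert.lenP)))
    (pprod (deg.map xpow1)) = true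

variable {C : InvCert} {D : ChevalleyDatum} {M : List (List ℤ)} {deg : List ℕ}
  (hD : Good D) (hR : Roots D M 1)

/-- The number of positive even roots made negative. -/
def nInv (C : InvCert) (D : ChevalleyDatum) (w : Equiv.Perm (Fin D.nroots)) : ℕ :=
  ((C.sp D).filter fun q => C.posMask.testBit (w q).val = false).card

/-- The elements of the Weyl group preserving the parity. -/
def stab (C : InvCert) : Subgroup (Equiv.Perm (Fin D.nroots)) :=
  weyl hD ⊓
    { carrier := {w | ∀ r, C.par D (w r).val % 2 = C.par D r.val % 2}
      one_mem' := fun _ => rfl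
      mul_mem' := fun {v w} hv hw r => (hv (w r)).trans (hw r)
      inv_mem' := fun {w} hw r => by
        have := hw (w⁻¹ r)
        rw [show w (w⁻¹ r) = r by simp] at this
        exact this.symm }

/-- The reflection in a fundamental even root. -/
def rho (C : InvCert) (j : ℕ) : Equiv.Perm (Fin D.nroots) := pw hD (C.word D j)

/-- The subgroups of the chain. -/
def chainGrp (C : InvCert) (k : ℕ) : Subgroup (Equiv.Perm (Fin D.nroots)) :=
  Subgroup.closure {w | ∃ j < k, j < D.rank ∧ w = rho hD C j}

variable (hC : InvOK C D M deg)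
include hC

theorem co_eq {q k : ℕ} (hq : q < D.nroots) (hk : k < D.rank) : (C.CO.getD q []).getD k 0 = co D M k q := by
  simp [hC.tableCO, hq, hk]

theorem lc_eq (v : List ℤ) {q : ℕ} (hq : q < D.nroots) :
    C.lc D v q = ((List.range D.rank).map fun a => v.getD a 0 * co D M a q).sum := by
  refine congrArg List.sum (List.map_congr_left fun a ha => ?_)
  rw [co_eq hC hq (List.mem_range.1 ha)]

include hR in
theorem pos_iff {q : ℕ} (hq : q < D.nroots) : C.posMask.testBit q = true ↔ D.IsPosRoot q := by
  rw [of_decide_eq_true hC.pos ⟨q, hq⟩, hR.sgn q hq, List.all_eq_true]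
  constructor
  · intro h k hk
    have := of_decide_eq_true (h k (List.mem_range.2 hk))
    rwa [co_eq hC hq hk] at this
  · intro h k hk
    rw [decide_eq_true_eq, co_eq hC hq (List.mem_range.1 hk)]
    exact h k (List.mem_range.1 hk)

theorem even_iff {q : ℕ} (hq : q < D.nroots) : C.evenMask.testBit q = true ↔ C.par D q % 2 = 0 := by
  rw [of_decide_eq_true hC.even ⟨q, hq⟩, decide_eq_true_eq]

include hR in
theorem inS_iff {q : ℕ} (hq : q < D.nroots) : C.inS q = true ↔ D.IsPosRoot q ∧ C.par D q % 2 = 0 := by
  rw [InvCert.inS, Bool.and_eq_true, pos_iff hR hC hq, even_iff hC hq]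

include hD hR in
theorem wlist_word {j q : ℕ} (hj : j < D.rank) (hq : q < D.nroots) : wlist D (C.word D j) q = C.tl j q := by
  have hr := (of_decide_eq_true hC.root ⟨j, hj⟩).1
  have ht := fun p (hp : p < D.nroots) => (of_decide_eq_true hC.table ⟨j, hj⟩ ⟨p, hp⟩).1
  rw [ht q hq]
  refine hR.root_ext (wlist_lt hD _ hq) (refl_lt hD hr hq) fun k hk => ?_
  obtain ⟨g, hg, eg⟩ := exists_lin_comp hD hR (isLin_co hD M k) (C.word D j)
  rw [← eg q hq, (isLin_co hD M k).refl hD hr hq]
  have hlin : IsLin D fun p => co D M k p - D.pairing (C.root j) p * co D M k (C.root j) := by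
    have := (isLin_co hD M k).addFun ((isLin_pairing hD (C.root j)).smul (-co D M k (C.root j)))
    simpa only [sub_eq_add_neg, neg_mul, mul_comm] using this
  refine lin_ext hD hR hg hlin (fun i hi => ?_) hq
  have hs := hD.simple_lt i hi
  rw [eg _ hs, of_decide_eq_true hC.wordOK ⟨j, hj⟩ ⟨i, hi⟩, ht _ hs]
  exact (isLin_co hD M k).refl hD hr hs

include hD hR in
theorem tl_lt {j q : ℕ} (hj : j < D.rank) (hq : q < D.nroots) : C.tl j q < D.nroots := by
  rw [← wlist_word hD hR hC hj hq]; exact wlist_lt hD _ hq

include hR in
theorem rho_apply {j : ℕ} (hj : j < D.rank) (q : Fin D.nroots) : (rho hD C j q).val = C.tl j q.val := by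
  rw [rho, pw_apply, wlist_word hD hR hC hj q.isLt]

include hR in
theorem rho_mem_stab {j : ℕ} (hj : j < D.rank) : rho hD C j ∈ stab hD C := by
  refine ⟨⟨_, rfl⟩, fun q => ?_⟩
  have h := (of_decide_eq_true hC.table ⟨j, hj⟩ ⟨q.val, q.isLt⟩).2.1
  rw [rho_apply hD hR hC hj]
  have e1 := even_iff hC (tl_lt hD hR hC hj q.isLt)
  have e2 := even_iff hC q.isLt
  rw [h, e2] at e1
  omega

include hD hR in
theorem app_eq (w : List ℕ) (hw : ∀ j ∈ w, j < D.rank) {q : ℕ} (hq : q < D.nroots) :
    C.app w q = wlist D (C.wordOf D w) q := by
  induction w with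
  | nil => rfl
  | cons j w ih =>
    have e : C.app (j :: w) q = C.tl j (C.app w q) := rfl
    have e' : C.wordOf D (j :: w) = C.word D j ++ C.wordOf D w := by simp only [InvCert.wordOf, List.flatMap_cons]
    rw [e, ih fun a ha => hw a (List.mem_cons_of_mem _ ha), e', wlist_append,
      wlist_word hD hR hC (hw j List.mem_cons_self) (wlist_lt hD _ hq)]

omit hC in
theorem pw_wordOf (w : List ℕ) : pw hD (C.wordOf D w) = (w.map (rho hD C)).prod := by
  induction w with
  | nil => rfl
  | cons j w ih =>
    rw [InvCert.wordOf, List.flatMap_cons, pw_append, List.map_cons, List.prod_cons]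
    exact congrArg _ ih

include hD in
/-- A property of the fundamental even roots closed under addition holds at all positive even roots. -/
theorem sp_induction {P : ℕ → Prop} (hbase : ∀ j < D.rank, P (C.root j))
    (hstep : ∀ q a b, a < D.nroots → b < D.nroots → D.chainRoot a b 1 = some q → P a → P b → P q)
    {q : ℕ} (hq : q < D.nroots) (hS : C.inS q = true) : P q := by
  have key : ∀ (L : List (ℕ × ℕ × ℕ)) (known : List ℕ), C.decOK D known L = true →
      (∀ x ∈ known, x < D.nroots ∧ P x) → P q := by
    intro L
    induction L with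
    | nil =>
      intro known h hk
      simp only [InvCert.decOK, List.all_eq_true, Bool.or_eq_true, Bool.not_eq_true', List.mem_range,
        List.contains_iff_mem] at h
      rcases h q hq with h | h
      · rw [hS] at h; exact Bool.noConfusion h
      · exact (hk q h).2
    | cons x L ih =>
      obtain ⟨p, a, b⟩ := x
      intro known h hk
      simp only [InvCert.decOK, Bool.and_eq_true, List.contains_iff_mem, beq_iff_eq] at h
      obtain ⟨⟨⟨ha, hb⟩, hc⟩, hrest⟩ := h
      refine ih _ hrest fun y hy => ?_
      rcases List.mem_cons.1 hy with rfl | hy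
      · exact ⟨chainRoot_lt hD (hk a ha).1 (hk b hb).1 hc,
          hstep _ a b (hk a ha).1 (hk b hb).1 hc (hk a ha).2 (hk b hb).2⟩
      · exact hk y hy
  refine key _ _ hC.decs fun x hx => ?_
  obtain ⟨j, hj, rfl⟩ := List.mem_map.1 hx
  exact ⟨(of_decide_eq_true hC.root ⟨j, List.mem_range.1 hj⟩).1, hbase j (List.mem_range.1 hj)⟩

include hD hR in
/-- Words making the relevant fundamental even roots positive make the sums positive. -/
theorem pos_of_add {l : List (Fin D.rank)} {q a b : ℕ} (ha : a < D.nroots) (hb : b < D.nroots)
    (hc : D.chainRoot a b 1 = some q) (pa : C.posMask.testBit (wlist D l a) = true)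
    (pb : C.posMask.testBit (wlist D l b) = true) : C.posMask.testBit (wlist D l q) = true := by
  have hq := chainRoot_lt hD ha hb hc
  rw [pos_iff hR hC (wlist_lt hD l ha), hR.sgn _ (wlist_lt hD l ha)] at pa
  rw [pos_iff hR hC (wlist_lt hD l hb), hR.sgn _ (wlist_lt hD l hb)] at pb
  rw [pos_iff hR hC (wlist_lt hD l hq), hR.sgn _ (wlist_lt hD l hq)]
  intro k hk
  obtain ⟨g, hg, eg⟩ := exists_lin_comp hD hR (isLin_co hD M k) l
  rw [← eg q hq, hg.add a ha b hb q hc, eg a ha, eg b hb]
  exact add_nonneg (pa k hk) (pb k hk)

include hR in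
theorem pos_rho_root {j : ℕ} (hj : j < D.rank) :
    (rho hD C j ⟨C.root j, (of_decide_eq_true hC.root ⟨j, hj⟩).1⟩).val = D.neg (C.root j) := by
  rw [rho_apply hD hR hC hj, (of_decide_eq_true hC.table ⟨j, hj⟩ ⟨_, (of_decide_eq_true hC.root ⟨j, hj⟩).1⟩).1,
    Chev.refl, if_pos rfl]

include hD hR in
theorem pos_neg_iff {q : ℕ} (hq : q < D.nroots) :
    C.posMask.testBit (D.neg q) = true ↔ C.posMask.testBit q = false := by
  rw [pos_iff hR hC (hD.neg_lt q hq), pos_or_neg hD hq, ← pos_iff hR hC hq]
  simp

include hR in
/-- An element of the stabiliser making all fundamental even roots positive is trivial. -/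
theorem eq_one_of_pos {w : Equiv.Perm (Fin D.nroots)} (hw : w ∈ stab hD C)
    (h : ∀ j, ∀ hj : j < D.rank, C.posMask.testBit (w ⟨C.root j, (of_decide_eq_true hC.root ⟨j, hj⟩).1⟩).val = true) :
    w = 1 := by
  classical
  obtain ⟨⟨l, rfl⟩, hpar⟩ := hw
  -- all positive even roots stay positive
  have hpos : ∀ q : Fin D.nroots, C.inS q.val = true → C.inS (pw hD l q).val = true := by
    intro q hq
    have h1 : C.posMask.testBit (wlist D l q.val) = true :=
      sp_induction hD hC (P := fun q => C.posMask.testBit (wlist D l q) = true)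
        (fun j hj => by have := h j hj; rwa [pw_apply] at this)
        (fun p a b ha hb hc pa pb => pos_of_add hD hR hC ha hb hc pa pb) q.isLt hq
    rw [InvCert.inS, Bool.and_eq_true] at hq ⊢
    refine ⟨by rw [pw_apply]; exact h1, ?_⟩
    rw [even_iff hC (pw hD l q).isLt, hpar q, ← even_iff hC q.isLt]
    exact hq.2
  have hmap : (C.sp D).map (pw hD l).toEmbedding = C.sp D := by
    refine Finset.eq_of_subset_of_card_le (fun x hx => ?_) (by rw [Finset.card_map])
    obtain ⟨y, hy, rfl⟩ := Finset.mem_map.1 hx
    simp only [InvCert.sp, Finset.mem_filter, Finset.mem_univ, true_and] at hy ⊢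
    exact hpos y hy
  -- the sum of the pairings is invariant
  set g : ℕ → ℤ := fun q => ∑ s ∈ C.sp D, D.pairing s.val q with hg
  have hginv : ∀ q < D.nroots, g (wlist D l q) = g q := by
    intro q hq
    simp only [hg]
    conv_lhs => rw [← hmap, Finset.sum_map]
    refine Finset.sum_congr rfl fun s _ => ?_
    show D.pairing (pw hD l s).val _ = _
    rw [pw_apply, pairing_wlist hD hC.coroot l s.isLt hq]
  have hglin : IsLin D g := ⟨fun a ha b hb k hk => by
      simp only [hg, ← Finset.sum_add_distrib]
      exact Finset.sum_congr rfl fun s _ => (isLin_pairing hD s.val).add a ha b hb k hk,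
    fun a ha => by
      simp only [hg, ← Finset.sum_neg_distrib]
      exact Finset.sum_congr rfl fun s _ => (isLin_pairing hD s.val).neg a ha⟩
  have hgl : ∀ q < D.nroots, g q = C.lc D C.gs q := by
    intro q hq
    rw [lc_eq hC _ hq]
    refine lin_ext hD hR hglin (isLin_sum _ fun a _ => (isLin_co hD M a).smul _) (fun i hi => ?_) hq
    show g (D.simple i) = _
    rw [hg]
    simp only []
    rw [of_decide_eq_true hC.gsum ⟨i, hi⟩, ← List.sum_toFinset _ List.nodup_range, List.toFinset_range,
      Finset.sum_eq_single i]
    · rw [hR.dual i hi i hi, if_pos rfl, mul_one]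
    · intro a ha hne
      rw [hR.dual a (Finset.mem_range.1 ha) i hi, if_neg hne, mul_zero]
    · exact fun hh => absurd (Finset.mem_range.2 hi) hh
  have hcand : ∀ i < D.rank, wlist D l (D.simple i) ∈ C.cands D i := by
    intro i hi
    have hs := hD.simple_lt i hi
    have hw := wlist_lt hD l hs
    simp only [InvCert.cands, List.mem_filter, List.mem_range, Bool.and_eq_true, beq_iff_eq]
    refine ⟨hw, ?_, by rw [← hgl _ hw, ← hgl _ hs, hginv _ hs]⟩
    have h1 := hpar ⟨D.simple i, hs⟩
    rw [pw_apply] at h1
    rw [Bool.eq_iff_iff, even_iff hC hw, even_iff hC hs, h1]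
  have key : ∀ (L acc : List ℕ), acc ++ L.map (fun i => wlist D l (D.simple i)) =
      (List.range D.rank).map (fun i => wlist D l (D.simple i)) →
      L = (List.range D.rank).drop acc.length → C.dfs D L acc = true →
      (List.range D.rank).map (fun i => wlist D l (D.simple i)) = (List.range D.rank).map D.simple := by
    intro L
    induction L with
    | nil =>
      intro acc e _ h
      simp only [InvCert.dfs, beq_iff_eq] at h
      rw [List.map_nil, List.append_nil] at e
      rw [← e, h]
    | cons i L ih =>
      intro acc e eL h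
      have hi : i = acc.length ∧ acc.length < D.rank ∧ L = (List.range D.rank).drop (acc.length + 1) := by
        by_cases hlt : acc.length < D.rank
        · rw [List.drop_eq_getElem_cons (by simpa using hlt), List.getElem_range] at eL
          injection eL with e1 e2
          exact ⟨e1, hlt, e2⟩
        · rw [List.drop_eq_nil_of_le (by simpa using not_lt.1 hlt)] at eL
          exact absurd eL (List.cons_ne_nil _ _)
      obtain ⟨rfl, hlt, eL'⟩ := hi
      simp only [InvCert.dfs, List.all_eq_true, Bool.or_eq_true] at h
      rcases h _ (hcand _ hlt) with hh | hh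
      · simp only [Bool.not_eq_true', List.all_eq_false, List.mem_range] at hh
        obtain ⟨j, hj, hne⟩ := hh
        exfalso
        apply hne
        have hjr : j < D.rank := by omega
        have ej : acc.getD j 0 = wlist D l (D.simple j) := by
          have e' := congrArg (fun X : List ℕ => X.getD j 0) e
          simp only [List.getD_append _ _ _ _ hj] at e'
          rw [e']
          simp [hjr]
        rw [ej, pairing_wlist hD hC.coroot l (hD.simple_lt j hjr) (hD.simple_lt _ hlt),
          pairing_wlist hD hC.coroot l (hD.simple_lt _ hlt) (hD.simple_lt j hjr)]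
        simp
      · refine ih _ ?_ (by simpa using eL') hh
        rw [List.append_assoc]
        exact e
  have hall := key _ [] (by simp) (by simp) hC.rigid
  rw [← pw_nil hD]
  refine pw_ext hD hR fun i hi => ?_
  exact List.map_inj_left.1 hall i (List.mem_range.2 hi)

include hR in
/-- The stabiliser is generated by the reflections. -/
theorem stab_eq_closure : stab hD C = chainGrp hD C D.rank := by
  classical
  refine le_antisymm (fun w hw => ?_) ((Subgroup.closure_le _).2 ?_)
  swap
  · rintro _ ⟨j, -, hj, rfl⟩
    exact rho_mem_stab hD hR hC hj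
  induction hn : nInv C D w using Nat.strong_induction_on generalizing w with
  | _ m ih =>
    by_cases h : ∀ j, ∀ hj : j < D.rank,
        C.posMask.testBit (w ⟨C.root j, (of_decide_eq_true hC.root ⟨j, hj⟩).1⟩).val = true
    · rw [eq_one_of_pos hD hR hC hw h]; exact one_mem _
    push Not at h
    obtain ⟨j, hj, hneg⟩ := h
    rw [ne_eq, Bool.not_eq_true] at hneg
    set p : Fin D.nroots := ⟨C.root j, (of_decide_eq_true hC.root ⟨j, hj⟩).1⟩ with hp
    have hρ : rho hD C j ∈ chainGrp hD C D.rank := Subgroup.subset_closure ⟨j, hj, hj, rfl⟩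
    have hlt : nInv C D (w * rho hD C j) < m := by
      rw [← hn]
      have hpmem : p ∈ (C.sp D).filter fun q => C.posMask.testBit (w q).val = false := by
        simp only [InvCert.sp, Finset.mem_filter, Finset.mem_univ, true_and]
        exact ⟨(of_decide_eq_true hC.root ⟨j, hj⟩).2, hneg⟩
      have hne : ∀ q, C.posMask.testBit ((w * rho hD C j) q).val = false → q ≠ p := by
        intro q hq' hqp
        subst hqp
        have e := pos_rho_root hD hR hC hj
        obtain ⟨⟨l, rfl⟩, -⟩ := hw
        rw [Equiv.Perm.mul_apply, pw_apply, e] at hq'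
        rw [pw_apply] at hneg
        obtain ⟨o, ho⟩ := hD.order
        have hl : wlist D l (D.neg (C.root j)) = D.neg (wlist D l (C.root j)) := by
          refine hR.root_ext (wlist_lt hD l (hD.neg_lt _ p.isLt)) (hD.neg_lt _ (wlist_lt hD l p.isLt)) fun k hk => ?_
          obtain ⟨g, hg, eg⟩ := exists_lin_comp hD hR (isLin_co hD M k) l
          rw [← eg _ (hD.neg_lt _ p.isLt), hg.neg _ p.isLt, eg _ p.isLt, (isLin_co hD M k).neg _ (wlist_lt hD l p.isLt)]
        rw [hl, (pos_neg_iff hD hR hC (wlist_lt hD l p.isLt)).2 hneg] at hq'
        exact Bool.noConfusion hq'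
      refine lt_of_le_of_lt (Finset.card_le_card_of_injOn (fun q => rho hD C j q)
        (t := ((C.sp D).filter fun q => C.posMask.testBit (w q).val = false).erase p) ?_
        (fun a _ b _ e => (rho hD C j).injective e)) (Finset.card_erase_lt_of_mem hpmem)
      intro q hq
      simp only [InvCert.sp, Finset.mem_filter, Finset.mem_univ, true_and, Finset.coe_filter,
        Set.mem_setOf_eq] at hq
      obtain ⟨hqS, hq'⟩ := hq
      have hqp := hne q hq'
      simp only [InvCert.sp, Finset.coe_erase, Set.mem_sdiff, Set.mem_singleton_iff, Finset.coe_filter,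
        Finset.mem_filter, Finset.mem_univ, true_and, Set.mem_setOf_eq]
      have hin : C.inS (rho hD C j q).val = true := by
        rw [rho_apply hD hR hC hj]
        exact (of_decide_eq_true hC.table ⟨j, hj⟩ ⟨q.val, q.isLt⟩).2.2 hqS fun e => hqp (Fin.ext e)
      refine ⟨⟨hin, hq'⟩, fun e => ?_⟩
      have h1 : C.posMask.testBit (rho hD C j q).val = true := ((Bool.and_eq_true _ _).mp hin).1
      have e2 : rho hD C j p = q := by
        rw [← e]
        have : rho hD C j * rho hD C j = 1 := by
          ext x
          have t1 : C.tl j (C.tl j x.val) = Chev.refl D (C.root j) (C.tl j x.val) :=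
            (of_decide_eq_true hC.table ⟨j, hj⟩ ⟨_, tl_lt hD hR hC hj x.isLt⟩).1
          have t2 : C.tl j x.val = Chev.refl D (C.root j) x.val :=
            (of_decide_eq_true hC.table ⟨j, hj⟩ ⟨x.val, x.isLt⟩).1
          rw [Equiv.Perm.mul_apply, rho_apply hD hR hC hj, rho_apply hD hR hC hj, Equiv.Perm.one_apply,
            t1, t2, refl_refl hD (of_decide_eq_true hC.root ⟨j, hj⟩).1 x.isLt]
        rw [← Equiv.Perm.mul_apply, this, Equiv.Perm.one_apply]
      have h2 : C.posMask.testBit q.val = true := ((Bool.and_eq_true _ _).mp hqS).1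
      rw [← e2, pos_rho_root hD hR hC hj, pos_neg_iff hD hR hC p.isLt] at h2
      have h3 : C.posMask.testBit p.val = true := ((Bool.and_eq_true _ _).mp (of_decide_eq_true hC.root ⟨j, hj⟩).2).1
      rw [h2] at h3
      exact Bool.noConfusion h3
    have h' := ih _ hlt _ (mul_mem hw (rho_mem_stab hD hR hC hj)) rfl
    have := mul_mem h' (inv_mem hρ)
    rwa [mul_inv_cancel_right] at this

end Cfsg.Agent.ChevInv
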