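import Cfsg.Agent.EqLemmas
import Cfsg.Agent.Lib.ChevInv.Cert

/-!
# The length polynomial of the stabiliser

Along the chain the next group is the product of the coset representatives and the previous group, and the numbers of
positive even roots made negative add up.
-/

set_option autoImplicit false

namespace Cfsg.Agent.ChevInv

open Cfsg.Lie Cfsg.Lie.ChevalleyDatum Cfsg.Agent.Chev Cfsg.Agent.ChevBN Cfsg.Agent.ChevSt
open Cfsg.Agent.ChevLang (pev peq pmul pprod xpow1)
open scoped Classical

variable {C : InvCert} {D : ChevalleyDatum} {M : List (List ℤ)} {deg : List ℕ}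
  (hD : Good D) (hR : Roots D M 1)

/-- The data of step `k`. -/
def lev (C : InvCert) (k : ℕ) : Level := C.levels.getD k ⟨[], [], [], []⟩

/-- The linear function of step `k`. -/
def fv (C : InvCert) (D : ChevalleyDatum) (k q : ℕ) : ℤ := C.lc D (lev C k).f q

/-- The element of a representative. -/
def rep (C : InvCert) (k a : ℕ) : Equiv.Perm (Fin D.nroots) := pw hD (C.wordOf D ((lev C k).reps.getD a []))

/-- The sum of the powers of `x` over a group. -/
noncomputable def gSum (C : InvCert) (H : Subgroup (Equiv.Perm (Fin D.nroots))) (x : ℤ) : ℤ :=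
  ∑ w : H, x ^ nInv C D w.val

variable (hC : InvOK C D M deg)
include hC

theorem level_facts {k : ℕ} (hk : k < D.rank) :
    (∀ j : Fin D.rank, (j.val < k → fv C D k (C.root j.val) = 0) ∧ (k ≤ j.val → 0 < fv C D k (C.root j.val))) ∧
    ((lev C k).reps.getD 0 [0] = [] ∧ (lev C k).lens.length = (lev C k).reps.length) ∧
    (∀ a : Fin (lev C k).reps.length,
      (∀ s ∈ (lev C k).reps.getD a.val [], s ≤ k) ∧
      (∀ j : Fin k, C.posMask.testBit (C.app ((lev C k).reps.getD a.val []) (C.root j.val)) = true) ∧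
      (Finset.univ.filter fun q : Fin D.nroots => C.inS q.val = true ∧
        C.posMask.testBit (C.app ((lev C k).reps.getD a.val []) q.val) = false).card =
          (lev C k).lens.getD a.val 0 ∧
      (∀ s : Fin (k + 1),
        (((lev C k).trans.getD a.val []).getD s.val (0, 0)).1 < (lev C k).reps.length ∧
        (((lev C k).trans.getD a.val []).getD s.val (0, 0)).2 ≤ k ∧
        ∀ i : Fin D.rank, C.app (s.val :: (lev C k).reps.getD a.val []) (D.simple i.val) =
          C.app ((lev C k).reps.getD (((lev C k).trans.getD a.val []).getD s.val (0, 0)).1 [] ++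
            (match (((lev C k).trans.getD a.val []).getD s.val (0, 0)).2 with
              | 0 => []
              | j + 1 => [j])) (D.simple i.val))) ∧
    ((lev C k).reps.map fun w => (List.range D.rank).map fun i => fv C D k (C.app w.reverse (D.simple i))).Nodup := by
  have h := List.all_eq_true.1 hC.chain k (List.mem_range.2 hk)
  simp only [InvCert.levelOK, Bool.and_eq_true, decide_eq_true_eq, beq_iff_eq] at h
  exact ⟨h.1.1.1, h.1.1.2, h.1.2, h.2⟩

include hD in
theorem isLin_lc (v : List ℤ) : IsLin D (C.lc D v) :=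
  have h : IsLin D fun q => ((List.range D.rank).map fun a => v.getD a 0 * co D M a q).sum :=
    isLin_sum _ fun a _ => (isLin_co hD M a).smul _
  ⟨fun a ha b hb q hq => by
      rw [lc_eq hC v (chainRoot_lt hD ha hb hq), lc_eq hC v ha, lc_eq hC v hb]; exact h.add a ha b hb q hq,
    fun a ha => by rw [lc_eq hC v (hD.neg_lt a ha), lc_eq hC v ha]; exact h.neg a ha⟩

include hR in
theorem rho_mul_self {j : ℕ} (hj : j < D.rank) : rho hD C j * rho hD C j = 1 := by
  ext x
  have t1 : C.tl j (C.tl j x.val) = Chev.refl D (C.root j) (C.tl j x.val) :=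
    (of_decide_eq_true hC.table ⟨j, hj⟩ ⟨_, tl_lt hD hR hC hj x.isLt⟩).1
  have t2 : C.tl j x.val = Chev.refl D (C.root j) x.val :=
    (of_decide_eq_true hC.table ⟨j, hj⟩ ⟨x.val, x.isLt⟩).1
  rw [Equiv.Perm.mul_apply, rho_apply hD hR hC hj, rho_apply hD hR hC hj, Equiv.Perm.one_apply,
    t1, t2, refl_refl hD (of_decide_eq_true hC.root ⟨j, hj⟩).1 x.isLt]

include hR in
theorem rho_inv {j : ℕ} (hj : j < D.rank) : (rho hD C j)⁻¹ = rho hD C j :=
  inv_eq_of_mul_eq_one_right (rho_mul_self hD hR hC hj)

include hR in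
theorem pw_wordOf_inv {w : List ℕ} (hw : ∀ j ∈ w, j < D.rank) :
    (pw hD (C.wordOf D w))⁻¹ = pw hD (C.wordOf D w.reverse) := by
  rw [pw_wordOf, pw_wordOf, List.prod_inv_reverse, List.map_map, List.map_reverse]
  congr 2
  exact List.map_congr_left fun j hj => rho_inv hD hR hC (hw j hj)

include hR in
theorem chainGrp_le_stab (k : ℕ) : chainGrp hD C k ≤ stab hD C :=
  (Subgroup.closure_le _).2 (by rintro _ ⟨j, -, hj, rfl⟩; exact rho_mem_stab hD hR hC hj)

theorem even_of_mem_stab {w : Equiv.Perm (Fin D.nroots)} (hw : w ∈ stab hD C) (q : Fin D.nroots) :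
    C.evenMask.testBit (w q).val = C.evenMask.testBit q.val := by
  rw [Bool.eq_iff_iff, even_iff hC (w q).isLt, even_iff hC q.isLt, hw.2 q]

include hR in
theorem fv_invariant {k : ℕ} (hk : k < D.rank) {h : Equiv.Perm (Fin D.nroots)} (hh : h ∈ chainGrp hD C k)
    (q : Fin D.nroots) : fv C D k (h q).val = fv C D k q.val := by
  revert q
  induction hh using Subgroup.closure_induction with
  | mem x hx =>
    obtain ⟨j, hjk, hj, rfl⟩ := hx
    intro q
    rw [rho_apply hD hR hC hj, (of_decide_eq_true hC.table ⟨j, hj⟩ ⟨q.val, q.isLt⟩).1, fv,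
      (isLin_lc hD hC _).refl hD (of_decide_eq_true hC.root ⟨j, hj⟩).1 q.isLt]
    have h0 : C.lc D (lev C k).f (C.root j) = 0 := ((level_facts hC hk).1 ⟨j, hj⟩).1 hjk
    rw [h0, mul_zero, sub_zero]; rfl
  | one => intro q; rfl
  | mul x y _ _ hx hy => intro q; rw [Equiv.Perm.mul_apply, hx, hy]
  | inv x _ hx => intro q; rw [← hx (x⁻¹ q)]; simp

include hD in
theorem fv_nonneg {k : ℕ} (hk : k < D.rank) {q : ℕ} (hq : q < D.nroots) (hS : C.inS q = true) :
    0 ≤ fv C D k q :=
  sp_induction hD hC (P := fun q => 0 ≤ fv C D k q)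
    (fun j hj => by
      obtain ⟨h1, h2⟩ := (level_facts hC hk).1 ⟨j, hj⟩
      rcases Nat.lt_or_ge j k with h | h
      · exact (h1 h).ge
      · exact (h2 h).le)
    (fun p a b ha hb hc pa pb => by
      show 0 ≤ fv C D k p
      rw [fv, (isLin_lc hD hC _).add a ha b hb p hc]
      exact add_nonneg pa pb) hq hS

include hD hR in
theorem inS_of_fv_pos {k : ℕ} (hk : k < D.rank) {q : ℕ} (hq : q < D.nroots) (he : C.evenMask.testBit q = true)
    (hf : 0 < fv C D k q) : C.inS q = true := by
  rw [InvCert.inS, he, Bool.and_true]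
  by_contra hp
  rw [Bool.not_eq_true] at hp
  have hn : C.inS (D.neg q) = true := by
    rw [InvCert.inS, (pos_neg_iff hD hR hC hq).2 hp, of_decide_eq_true hC.evenNeg ⟨q, hq⟩, he]; rfl
  have := fv_nonneg hD hC hk (hD.neg_lt q hq) hn
  rw [fv, (isLin_lc hD hC _).neg q hq] at this
  unfold fv at hf
  omega

include hD hR in
/-- A representative keeps positive the positive even roots where the function vanishes. -/
theorem rep_pos {k : ℕ} (hk : k < D.rank) (a : Fin (lev C k).reps.length) {q : ℕ} (hq : q < D.nroots)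
    (hS : C.inS q = true) (h0 : fv C D k q = 0) :
    C.posMask.testBit (wlist D (C.wordOf D ((lev C k).reps.getD a.val [])) q) = true := by
  obtain ⟨hb, -, hrep, -⟩ := level_facts hC hk
  have hw : ∀ j ∈ (lev C k).reps.getD a.val [], j < D.rank := fun j hj => ((hrep a).1 j hj).trans_lt hk
  refine (sp_induction hD hC (P := fun q => 0 ≤ fv C D k q ∧
    (fv C D k q = 0 → C.posMask.testBit (wlist D (C.wordOf D ((lev C k).reps.getD a.val [])) q) = true))
    (fun j hj => ?_) (fun p x y hx hy hc px py => ?_) hq hS).2 h0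
  · obtain ⟨h1, h2⟩ := hb ⟨j, hj⟩
    refine ⟨?_, fun e => ?_⟩
    · rcases Nat.lt_or_ge j k with h | h
      · exact (h1 h).ge
      · exact (h2 h).le
    · rcases Nat.lt_or_ge j k with h | h
      · have := (hrep a).2.1 ⟨j, h⟩
        rwa [app_eq hD hR hC _ hw (of_decide_eq_true hC.root ⟨j, hj⟩).1] at this
      · exact absurd e (h2 h).ne'
  · have e : fv C D k p = fv C D k x + fv C D k y := (isLin_lc hD hC _).add x hx y hy p hc
    refine ⟨by rw [e]; exact add_nonneg px.1 py.1, fun e0 => ?_⟩
    exact pos_of_add hD hR hC hx hy hc (px.2 (by have := px.1; have := py.1; omega))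
      (py.2 (by have := px.1; have := py.1; omega))

include hR in
theorem nInv_rep_mul {k : ℕ} (hk : k < D.rank) (a : Fin (lev C k).reps.length) {h : Equiv.Perm (Fin D.nroots)}
    (hh : h ∈ chainGrp hD C k) :
    nInv C D (rep hD C k a.val * h) = nInv C D (rep hD C k a.val) + nInv C D h := by
  have hs := chainGrp_le_stab hD hR hC k hh
  set r := rep hD C k a.val with hr
  set Z := (C.sp D).filter fun q => fv C D k q.val = 0 with hZ
  set N := (C.sp D).filter fun q => ¬ fv C D k q.val = 0 with hN
  have hZm : ∀ q, q ∈ Z ↔ C.inS q.val = true ∧ fv C D k q.val = 0 := fun q => by simp [hZ, InvCert.sp]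
  have hNm : ∀ q, q ∈ N ↔ C.evenMask.testBit q.val = true ∧ 0 < fv C D k q.val := fun q => by
    simp only [hN, InvCert.sp, Finset.mem_filter, Finset.mem_univ, true_and]
    refine ⟨fun ⟨h1, h2⟩ => ⟨((Bool.and_eq_true _ _).mp h1).2, ?_⟩, fun ⟨h1, h2⟩ =>
      ⟨inS_of_fv_pos hD hR hC hk q.isLt h1 h2, h2.ne'⟩⟩
    exact lt_of_le_of_ne (fv_nonneg hD hC hk q.isLt h1) (Ne.symm h2)
  have split : ∀ w : Equiv.Perm (Fin D.nroots), nInv C D w =
      (Z.filter fun q => C.posMask.testBit (w q).val = false).card +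
        (N.filter fun q => C.posMask.testBit (w q).val = false).card := fun w => by
    rw [nInv, hZ, hN, Finset.filter_filter, Finset.filter_filter,
      ← Finset.card_filter_add_card_filter_not (p := fun q : Fin D.nroots => fv C D k q.val = 0),
      Finset.filter_filter, Finset.filter_filter]
    congr 1 <;> exact congrArg Finset.card (Finset.filter_congr fun q _ => and_comm)
  have hrZ : ∀ q ∈ Z, C.posMask.testBit (r q).val = true := fun q hq => by
    rw [hr, rep, pw_apply]
    exact rep_pos hD hR hC hk a q.isLt ((hZm q).1 hq).1 ((hZm q).1 hq).2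
  have r_neg : ∀ q : Fin D.nroots,
      (r ⟨D.neg q.val, hD.neg_lt _ q.isLt⟩).val = D.neg (r q).val := fun q => by
    rw [hr, rep, pw_apply, pw_apply]
    refine hR.root_ext (wlist_lt hD _ (hD.neg_lt _ q.isLt)) (hD.neg_lt _ (wlist_lt hD _ q.isLt)) fun i hi => ?_
    obtain ⟨g, hg, eg⟩ := exists_lin_comp hD hR (isLin_co hD M i) (C.wordOf D ((lev C k).reps.getD a.val []))
    rw [← eg _ (hD.neg_lt _ q.isLt), hg.neg _ q.isLt, eg _ q.isLt,
      (isLin_co hD M i).neg _ (wlist_lt hD _ q.isLt)]
  have hmN : ∀ q, q ∈ N ↔ h q ∈ N := fun q => by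
    rw [hNm, hNm, even_of_mem_stab hD hC hs, fv_invariant hD hR hC hk hh]
  have e1 : (Z.filter fun q => C.posMask.testBit (r q).val = false) = ∅ :=
    Finset.filter_eq_empty_iff.2 fun q hq => by rw [hrZ q hq]; simp
  have e2 : (N.filter fun q => C.posMask.testBit (h q).val = false) = ∅ :=
    Finset.filter_eq_empty_iff.2 fun q hq => by
      obtain ⟨he, hf⟩ := (hNm _).1 ((hmN q).1 hq)
      have := inS_of_fv_pos hD hR hC hk (h q).isLt he hf
      rw [InvCert.inS, Bool.and_eq_true] at this
      rw [this.1]; simp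
  have e3 : (N.filter fun q => C.posMask.testBit ((r * h) q).val = false).card =
      (N.filter fun q => C.posMask.testBit (r q).val = false).card :=
    Finset.card_equiv h fun q =>
      ⟨fun hq => Finset.mem_filter.2 ⟨(hmN q).1 (Finset.mem_filter.1 hq).1, (Finset.mem_filter.1 hq).2⟩,
       fun hq => Finset.mem_filter.2 ⟨(hmN q).2 (Finset.mem_filter.1 hq).1, (Finset.mem_filter.1 hq).2⟩⟩
  have e4 : (Z.filter fun q => C.posMask.testBit ((r * h) q).val = false) =
      Z.filter fun q => C.posMask.testBit (h q).val = false := by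
    refine Finset.filter_congr fun q hq => ?_
    obtain ⟨hqS, hq0⟩ := (hZm q).1 hq
    have hf : fv C D k (h q).val = 0 := by rw [fv_invariant hD hR hC hk hh, hq0]
    have he : C.evenMask.testBit (h q).val = true := by
      rw [even_of_mem_stab hD hC hs]; exact ((Bool.and_eq_true _ _).mp hqS).2
    rw [Equiv.Perm.mul_apply]
    by_cases hp : C.posMask.testBit (h q).val = true
    · rw [hp, hrZ (h q) ((hZm _).2 ⟨by rw [InvCert.inS, hp, he]; rfl, hf⟩)]
    · rw [Bool.not_eq_true] at hp
      refine iff_of_true ?_ hp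
      have hm : (⟨D.neg (h q).val, hD.neg_lt _ (h q).isLt⟩ : Fin D.nroots) ∈ Z := by
        refine (hZm _).2 ⟨?_, ?_⟩
        · rw [InvCert.inS, (pos_neg_iff hD hR hC (h q).isLt).2 hp, of_decide_eq_true hC.evenNeg (h q), he]; rfl
        · show fv C D k (D.neg (h q).val) = 0
          rw [fv, (isLin_lc hD hC _).neg _ (h q).isLt, ← fv, hf, neg_zero]
      have := hrZ _ hm
      rw [r_neg (h q), pos_neg_iff hD hR hC (r (h q)).isLt] at this
      exact this
  rw [split (r * h), split r, split h, e1, e2, e3, e4]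
  simp [add_comm]

include hR in
theorem nInv_rep {k : ℕ} (hk : k < D.rank) (a : Fin (lev C k).reps.length) :
    nInv C D (rep hD C k a.val) = (lev C k).lens.getD a.val 0 := by
  obtain ⟨-, -, hrep, -⟩ := level_facts hC hk
  rw [← (hrep a).2.2.1, nInv, InvCert.sp, Finset.filter_filter]
  refine congrArg Finset.card (Finset.filter_congr fun q _ => ?_)
  rw [rep, pw_apply, app_eq hD hR hC _ (fun j hj => ((hrep a).1 j hj).trans_lt hk) q.isLt]

include hR in
theorem chain_bijective {k : ℕ} (hk : k < D.rank) :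
    ∃ e : Fin (lev C k).reps.length × chainGrp hD C k ≃ chainGrp hD C (k + 1),
      ∀ p, (e p).val = rep hD C k p.1.val * p.2.val := by
  obtain ⟨-, ⟨hr0, -⟩, hrep, hnd⟩ := level_facts hC hk
  have hw : ∀ a : Fin (lev C k).reps.length, ∀ j ∈ (lev C k).reps.getD a.val [], j < D.rank :=
    fun a j hj => ((hrep a).1 j hj).trans_lt hk
  have hle : chainGrp hD C k ≤ chainGrp hD C (k + 1) :=
    Subgroup.closure_mono (by rintro _ ⟨j, hjk, hj, rfl⟩; exact ⟨j, by omega, hj, rfl⟩)
  have hrmem : ∀ a : Fin (lev C k).reps.length, rep hD C k a.val ∈ chainGrp hD C (k + 1) := fun a => by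
    rw [rep, pw_wordOf]
    refine list_prod_mem fun x hx => ?_
    obtain ⟨j, hj, rfl⟩ := List.mem_map.1 hx
    exact Subgroup.subset_closure ⟨j, by have := (hrep a).1 j hj; omega, hw a j hj, rfl⟩
  have hstep : ∀ (a : Fin (lev C k).reps.length) (s : ℕ), s ≤ k →
      ∃ b : Fin (lev C k).reps.length, ∃ h ∈ chainGrp hD C k, rho hD C s * rep hD C k a.val = rep hD C k b.val * h := by
    intro a s hs
    obtain ⟨hb, hj, happ⟩ := (hrep a).2.2.2 ⟨s, by omega⟩
    generalize (((lev C k).trans.getD a.val []).getD s (0, 0)).2 = j at hj happ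
    generalize (((lev C k).trans.getD a.val []).getD s (0, 0)).1 = b at hb happ
    have key : ∀ tail : List ℕ, (∀ x ∈ tail, x < k) →
        (∀ i : Fin D.rank, C.app (s :: (lev C k).reps.getD a.val []) (D.simple i.val) =
          C.app ((lev C k).reps.getD b [] ++ tail) (D.simple i.val)) →
        rho hD C s * rep hD C k a.val = rep hD C k b * (tail.map (rho hD C)).prod := by
      intro tail ht he
      have e : pw hD (C.wordOf D (s :: (lev C k).reps.getD a.val [])) =
          pw hD (C.wordOf D ((lev C k).reps.getD b [] ++ tail)) := by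
        refine pw_ext hD hR fun i hi => ?_
        have := he ⟨i, hi⟩
        rwa [app_eq hD hR hC _ (fun x hx => ?_) (hD.simple_lt i hi),
          app_eq hD hR hC _ (fun x hx => ?_) (hD.simple_lt i hi)] at this
        · rcases List.mem_append.1 hx with hx | hx
          · exact hw ⟨b, hb⟩ x hx
          · have := ht x hx; omega
        · rcases List.mem_cons.1 hx with rfl | hx
          · omega
          · exact hw a x hx
      rw [rep, rep, pw_wordOf, pw_wordOf, ← List.prod_cons, ← List.prod_append, ← List.map_append,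
        ← List.map_cons (f := rho hD C), ← pw_wordOf, ← pw_wordOf, e]
    rcases j with _ | j
    · exact ⟨⟨b, hb⟩, 1, one_mem _, by simpa using key [] (by simp) happ⟩
    · refine ⟨⟨b, hb⟩, rho hD C j, Subgroup.subset_closure ⟨j, by omega, by omega, rfl⟩, ?_⟩
      simpa using key [j] (by simp; omega) happ
  have h0 : 0 < (lev C k).reps.length := by
    by_contra hh
    rw [List.getD_eq_default _ _ (by omega)] at hr0
    exact List.cons_ne_nil _ _ hr0
  have hr1 : rep hD C k 0 = 1 := by
    have e : (lev C k).reps.getD 0 [] = [] := by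
      rw [List.getD_eq_getElem _ _ h0] at hr0 ⊢; exact hr0
    rw [rep, e]; rfl
  have hsurj : ∀ w ∈ chainGrp hD C (k + 1),
      ∃ a : Fin (lev C k).reps.length, ∃ h ∈ chainGrp hD C k, w = rep hD C k a.val * h := by
    intro w hw'
    induction hw' using Subgroup.closure_induction_left with
    | one => exact ⟨⟨0, h0⟩, 1, one_mem _, by rw [hr1, mul_one]⟩
    | mul_left x hx y _ ih =>
      obtain ⟨s, hs, hsr, rfl⟩ := hx
      obtain ⟨a, h, hh, rfl⟩ := ih
      obtain ⟨b, h', hh', e⟩ := hstep a s (by omega)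
      exact ⟨b, h' * h, mul_mem hh' hh, by rw [← mul_assoc, e, mul_assoc]⟩
    | inv_mul_cancel x hx y _ ih =>
      obtain ⟨s, hs, hsr, rfl⟩ := hx
      obtain ⟨a, h, hh, rfl⟩ := ih
      obtain ⟨b, h', hh', e⟩ := hstep a s (by omega)
      exact ⟨b, h' * h, mul_mem hh' hh, by rw [rho_inv hD hR hC hsr, ← mul_assoc, e, mul_assoc]⟩
  have hinj : ∀ (a b : Fin (lev C k).reps.length) (h h' : Equiv.Perm (Fin D.nroots)), h ∈ chainGrp hD C k →
      h' ∈ chainGrp hD C k → rep hD C k a.val * h = rep hD C k b.val * h' → a = b := by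
    intro a b h h' hh hh' e
    have val : ∀ (c : Fin (lev C k).reps.length) (g : Equiv.Perm (Fin D.nroots)), g ∈ chainGrp hD C k →
        ∀ q : Fin D.nroots, fv C D k (C.app ((lev C k).reps.getD c.val []).reverse q.val) =
          fv C D k ((rep hD C k c.val * g)⁻¹ q).val := by
      intro c g hg q
      rw [_root_.mul_inv_rev, Equiv.Perm.mul_apply, fv_invariant hD hR hC hk (inv_mem hg), rep,
        pw_wordOf_inv hD hR hC (hw c), pw_apply,
        app_eq hD hR hC _ (fun j hj => hw c j (List.mem_reverse.1 hj)) q.isLt]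
    refine Fin.ext ((hnd.getElem_inj_iff (hi := by simp) (hj := by simp)).1 ?_)
    rw [List.getElem_map, List.getElem_map]
    refine List.map_congr_left fun i hi => ?_
    have h1 := val a h hh ⟨D.simple i, hD.simple_lt i (List.mem_range.1 hi)⟩
    have h2 := val b h' hh' ⟨D.simple i, hD.simple_lt i (List.mem_range.1 hi)⟩
    rw [e, ← h2, List.getD_eq_getElem _ _ a.isLt, List.getD_eq_getElem _ _ b.isLt] at h1
    exact h1
  refine ⟨Equiv.ofBijective (fun p => ⟨rep hD C k p.1.val * p.2.val, mul_mem (hrmem p.1) (hle p.2.2)⟩) ⟨?_, ?_⟩,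
    fun p => rfl⟩
  · rintro ⟨a, h⟩ ⟨b, h'⟩ e
    have e' : rep hD C k a.val * h.val = rep hD C k b.val * h'.val := congrArg Subtype.val e
    obtain rfl := hinj a b _ _ h.2 h'.2 e'
    rw [Subtype.ext (mul_left_cancel e') (a1 := h) (a2 := h')]
  · rintro ⟨w, hw'⟩
    obtain ⟨a, h, hh, rfl⟩ := hsurj w hw'
    exact ⟨(a, ⟨h, hh⟩), rfl⟩

omit hC in
theorem pev_lenP (L : Level) (x : ℤ) : pev x (InvCert.lenP L) = (L.lens.map fun n => x ^ n).sum := by
  have h : ∀ n, pev x (List.replicate n 0 ++ [1]) = x ^ n := by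
    intro n
    induction n with
    | zero => simp [pev]
    | succ n ih => rw [List.replicate_succ, List.cons_append, pev, ih]; ring
  rw [InvCert.lenP]
  induction L.lens with
  | nil => rfl
  | cons n l ih => rw [List.foldr_cons, ChevLang.pev_padd, h, ih, List.map_cons, List.sum_cons]

include hR in
theorem gSum_succ {k : ℕ} (hk : k < D.rank) (x : ℤ) :
    gSum C (chainGrp hD C (k + 1)) x = pev x (InvCert.lenP (lev C k)) * gSum C (chainGrp hD C k) x := by
  obtain ⟨e, he⟩ := chain_bijective hD hR hC hk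
  have hl := (level_facts hC hk).2.1.2
  rw [gSum, gSum, ← e.sum_comp, Fintype.sum_prod_type, pev_lenP]
  simp only [he, nInv_rep_mul hD hR hC hk _ (Subtype.property _), pow_add, ← Finset.mul_sum]
  rw [← Finset.sum_mul]
  congr 1
  rw [← List.sum_ofFn]
  refine congrArg List.sum (List.ext_getElem (by simp [hl]) fun i h1 h2 => ?_)
  rw [List.getElem_ofFn, List.getElem_map, nInv_rep hD hR hC hk, List.getD_eq_getElem]

include hR in
/-- The length polynomial of the stabiliser. -/
theorem sum_stab (x : ℤ) : (x - 1) ^ D.rank * gSum C (stab hD C) x = (deg.map fun d => x ^ d - 1).prod := by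
  have hbot : ∀ H : Subgroup (Equiv.Perm (Fin D.nroots)), H = ⊥ → gSum C H x = 1 := by
    intro H hH
    have h1 : nInv C D (1 : Equiv.Perm (Fin D.nroots)) = 0 := by
      rw [nInv, Finset.card_eq_zero, Finset.filter_eq_empty_iff]
      intro q hq
      simp only [InvCert.sp, InvCert.inS, Finset.mem_filter, Finset.mem_univ, true_and, Bool.and_eq_true] at hq
      simp [hq.1]
    rw [gSum]
    refine (Finset.sum_eq_single (1 : H)
      (fun b _ hb => absurd (Subtype.ext (Subgroup.mem_bot.1 (hH ▸ b.2))) hb)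
      (fun hh => absurd (Finset.mem_univ _) hh)).trans ?_
    simp [h1]
  have h0 : gSum C (chainGrp hD C 0) x = 1 := by
    refine hbot _ ?_
    rw [chainGrp, Subgroup.closure_eq_bot_iff]
    rintro _ ⟨j, hj, -⟩
    exact absurd hj (Nat.not_lt_zero j)
  have key : ∀ k, k ≤ D.rank →
      gSum C (chainGrp hD C k) x = ((C.levels.take k).map fun L => pev x (InvCert.lenP L)).prod := by
    intro k
    induction k with
    | zero => intro _; rw [h0]; simp
    | succ k ih =>
      intro hk
      have hkl : k < C.levels.length := by rw [hC.len]; omega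
      rw [gSum_succ hD hR hC (by omega), ih (by omega), List.take_succ_eq_append_getElem hkl, List.map_append,
        List.prod_append, mul_comm, lev, List.getD_eq_getElem _ _ hkl]
      simp
  have hp := ChevLang.pev_of_peq hC.poly x
  rw [ChevLang.pev_pmul, ChevLang.pev_pprod, ChevLang.pev_pprod, ChevLang.pev_pprod, List.map_replicate,
    List.prod_replicate, ChevLang.pev_xpow1, pow_one, List.map_map, List.map_map] at hp
  rw [stab_eq_closure hD hR hC, key _ le_rfl, List.take_of_length_le (le_of_eq hC.len)]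
  refine hp.trans (congrArg List.prod (List.map_congr_left fun d _ => ?_))
  exact ChevLang.pev_xpow1 x d

end Cfsg.Agent.ChevInv
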