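import Cfsg.Agent.EqLemmas
import Cfsg.Agent.Lib.ChevInv.Chain
import Cfsg.Agent.Lib.ChevLang.Regular
import Cfsg.Agent.Lib.ChevLang.Twist

/-!
# Centralisers of the involutions of the torus

`exists_dec`: an element commuting with the involution of a certificate is a product of root elements at positive
even roots, a diagonal element, the representative of an element of the stabiliser, and root elements at the even
roots made negative. `card_centralizer`: the order of the centraliser.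
-/

set_option autoImplicit false

namespace Cfsg.Agent.ChevInv

open Cfsg.Lie Cfsg.Lie.ChevalleyDatum Cfsg.Agent.Chev Cfsg.Agent.ChevBN Cfsg.Agent.ChevSt
  Cfsg.Agent.ChevFixed Cfsg.Agent.ChevOrder

variable (C : InvCert) (D : ChevalleyDatum)

/-- The parameters of the involution. -/
def zc (F : Type*) [Field F] : Fin D.rank → Fˣ := fun i => (-1 : Fˣ) ^ C.bits.getD i.val 0

/-- The involution. -/
def invol (F : Type*) [Field F] : GL D.Idx F := torusHom D F (zc C D F)

/-- The positive even roots. -/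
def tPos : Finset ℕ := (C.sp D).map Fin.valEmbedding

/-- The positive even roots made negative. -/
def tNeg (w : Equiv.Perm (Fin D.nroots)) : Finset ℕ :=
  ((C.sp D).filter fun q => C.posMask.testBit (w q).val = false).map Fin.valEmbedding

variable {C D} {M : List (List ℤ)} {deg : List ℕ} {F : Type*} [Field F] (hD : Good D) (hR : Roots D M 1)

include hD in
theorem isLin_par : IsLin D (C.par D) := by
  have h : ∀ q, C.par D q = ∑ i : Fin D.rank, C.bits.getD i.val 0 * D.pairing (D.simple i.val) q := fun q =>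
    Finset.sum_congr rfl fun i _ => by rw [pairing_simple hD i.isLt]
  refine ⟨fun a ha b hb q hq => ?_, fun a ha => ?_⟩
  · simp only [h, ← Finset.sum_add_distrib, ← mul_add]
    exact Finset.sum_congr rfl fun i _ => by rw [(isLin_pairing hD _).add a ha b hb q hq]
  · simp only [h, ← Finset.sum_neg_distrib]
    exact Finset.sum_congr rfl fun i _ => by rw [(isLin_pairing hD _).neg a ha, mul_neg]

theorem chi_zc (r : ℕ) : ChevOrder.chi (zc C D F) r = (-1 : Fˣ) ^ C.par D r := by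
  simp only [ChevOrder.chi, zc, ← zpow_mul]
  rw [← zpow_sum', InvCert.par]

theorem chi_zc_of_even {r : ℕ} (h : C.par D r % 2 = 0) : ChevOrder.chi (zc C D F) r = 1 := by
  rw [chi_zc, (Int.even_iff.2 h).neg_one_zpow]

theorem chi_zc_of_odd {r : ℕ} (h : ¬ C.par D r % 2 = 0) : ChevOrder.chi (zc C D F) r = -1 := by
  rw [chi_zc, (Int.odd_iff.2 (by omega)).neg_one_zpow]

theorem chi_zc_eq_one_iff (h2 : (2 : F) ≠ 0) {r : ℕ} : ChevOrder.chi (zc C D F) r = 1 ↔ C.par D r % 2 = 0 := by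
  refine ⟨fun h => ?_, chi_zc_of_even⟩
  by_contra hh
  rw [chi_zc_of_odd hh, Units.ext_iff, Units.val_neg, Units.val_one] at h
  exact h2 (by linear_combination (-1 : F) * h)

theorem chi_zc_inj (h2 : (2 : F) ≠ 0) {r s : ℕ} (h : ChevOrder.chi (zc C D F) r = ChevOrder.chi (zc C D F) s) :
    C.par D r % 2 = C.par D s % 2 := by
  by_cases hr : C.par D r % 2 = 0
  · rw [chi_zc_of_even hr] at h
    rw [hr, (chi_zc_eq_one_iff h2).1 h.symm]
  · have hs : ¬ C.par D s % 2 = 0 := fun hs => hr ((chi_zc_eq_one_iff h2).1 (h.trans (chi_zc_of_even hs)))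
    omega

include hD in
theorem invol_conj {r : ℕ} (hr : r < D.nroots) (u : F) :
    invol C D F * xg hD F r u * (invol C D F)⁻¹ = xg hD F r ((ChevOrder.chi (zc C D F) r : F) * u) := by
  rw [invol, ChevLang.torusHom_mul_xg hD _ hr, mul_inv_cancel_right]

theorem invol_sq : invol C D F * invol C D F = 1 := by
  rw [invol, ← map_mul, show zc C D F * zc C D F = 1 from funext fun i => by
    simp [zc, ← mul_zpow], map_one]

include hD in
theorem invol_comm_xg {r : ℕ} (hr : r < D.nroots) (h : C.par D r % 2 = 0) (u : F) :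
    invol C D F * xg hD F r u = xg hD F r u * invol C D F := by
  rw [invol, ChevLang.torusHom_mul_xg hD _ hr, chi_zc_of_even h, Units.val_one, one_mul]

include hD hR in
/-- Conjugation of the involution by the representative of a word. -/
theorem nw_conj_invol (l : List (Fin D.rank)) :
    ∃ c, (chevRGD hD hR F).nw l * invol C D F * ((chevRGD hD hR F).nw l)⁻¹ = torusHom D F c ∧
      ∀ r : Fin D.nroots, ChevOrder.chi c (pw hD l r).val = ChevOrder.chi (zc C D F) r.val := by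
  set R := chevRGD hD hR F
  obtain ⟨c, hc⟩ := (torusHom_range (F := F) hD).ge (R.nw_conj_H l ((torusHom_range (F := F) hD).le ⟨zc C D F, rfl⟩))
  refine ⟨c, hc.symm, fun r => ?_⟩
  obtain ⟨hlt, e, he, heu⟩ := perms_nw hD hR (F := F) l r.val r.isLt
  rw [pw_apply]
  have e1 : torusHom D F c * xg hD F (wlist D l r.val) (e * 1) * (torusHom D F c)⁻¹ =
      xg hD F (wlist D l r.val) (e * ((ChevOrder.chi (zc C D F) r.val : F) * 1)) := by
    rw [hc, ← heu, ← heu, ← invol_conj hD r.isLt]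
    simp only [invol, R]
    group
  rw [ChevLang.torusHom_mul_xg hD _ hlt, mul_inv_cancel_right] at e1
  have := ChevInvolOdd.xg_param_inj hD hlt e1
  exact Units.ext (mul_right_cancel₀ he (by linear_combination this))

include hD hR in
theorem nw_comm_invol_iff (h2 : (2 : F) ≠ 0) (l : List (Fin D.rank)) :
    (chevRGD hD hR F).nw l * invol C D F = invol C D F * (chevRGD hD hR F).nw l ↔ pw hD l ∈ stab hD C := by
  obtain ⟨c, hc, hchi⟩ := nw_conj_invol hD hR (C := C) (F := F) l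
  have hiff : torusHom D F c = invol C D F ↔
      ∀ r : Fin D.nroots, ChevOrder.chi (zc C D F) (pw hD l r).val = ChevOrder.chi (zc C D F) r.val := by
    refine ⟨fun h r => ?_, fun h => ?_⟩
    · have e := congrArg (fun x : GL D.Idx F => (x : Matrix D.Idx D.Idx F) (Sum.inr (pw hD l r)) (Sum.inr (pw hD l r))) h
      simp only [invol, coe_torusHom, dg, Matrix.diagonal_apply_eq, Sum.elim_inr] at e
      rw [← hchi r]
      exact (Units.ext e).symm
    · apply Units.ext
      rw [invol, coe_torusHom, coe_torusHom, dg, dg]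
      congr 1
      ext a
      rcases a with i | q
      · rfl
      · show ((ChevOrder.chi c q.val : Fˣ) : F) = (ChevOrder.chi (zc C D F) q.val : Fˣ)
        obtain ⟨r, rfl⟩ := (pw hD l).surjective q
        rw [hchi r, h r]
  rw [← mul_inv_eq_iff_eq_mul, hc, hiff]
  refine ⟨fun h => ⟨⟨l, rfl⟩, fun r => chi_zc_inj h2 (h r)⟩, fun h r => ?_⟩
  rw [chi_zc, chi_zc]
  have e : C.par D (pw hD l r).val % 2 = C.par D r.val % 2 := h.2 r
  by_cases hr : C.par D r.val % 2 = 0
  · rw [(Int.even_iff.2 hr).neg_one_zpow, (Int.even_iff.2 (e.trans hr)).neg_one_zpow]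
  · rw [(Int.odd_iff.2 (by omega : C.par D r.val % 2 = 1)).neg_one_zpow,
      (Int.odd_iff.2 (by omega : C.par D (pw hD l r).val % 2 = 1)).neg_one_zpow]

include hD in
/-- The fixed elements in a product of positive root subgroups. -/
theorem genBy_even [Finite F] (h2 : (2 : F) ≠ 0) {f : ℕ → ℤ} (hf : IsLin D f) :
    ∀ (m : ℕ) (T : Finset ℕ), T.card = m → (∀ q ∈ T, q < D.nroots ∧ 0 < f q) →
      (∀ r ∈ T, ∀ s ∈ T, s ≠ r → ∀ τ ∈ D.commTerms r s, τ.1 ∈ T) →
      ∀ g ∈ (matSys D hD F).genBy (T : Set ℕ), invol C D F * g = g * invol C D F →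
        g ∈ (matSys D hD F).genBy ((T.filter fun q => C.par D q % 2 = 0 : Finset ℕ) : Set ℕ) := by
  intro m
  induction m with
  | zero =>
    intro T hT _ _ g hg _
    rw [Finset.card_eq_zero] at hT
    subst hT
    simpa using hg
  | succ m ih =>
    intro T hT hpos hclosed g hg hfg
    obtain ⟨k, hk, hT'card, hclosed', -, hdec, huniq, -, -⟩ := genBy_step (F := F) hD hf hT hpos hclosed
    obtain ⟨t, g', hg', rfl⟩ := hdec g hg
    have hconj : ∀ a ∈ (matSys D hD F).genBy (T.erase k : Set ℕ),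
        invol C D F * a * (invol C D F)⁻¹ ∈ (matSys D hD F).genBy (T.erase k : Set ℕ) := by
      intro a ha
      induction ha using Subgroup.closure_induction with
      | mem y hy =>
        obtain ⟨q, hq, v, rfl⟩ := hy
        show invol C D F * xg hD F q v * (invol C D F)⁻¹ ∈ _
        rw [invol_conj hD (hpos q (Finset.mem_of_mem_erase hq)).1]
        exact (matSys D hD F).x_mem_genBy hq _
      | one => rw [mul_one, mul_inv_cancel]; exact one_mem _
      | mul a b _ _ ha hb =>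
        rw [show invol C D F * (a * b) * (invol C D F)⁻¹ =
          (invol C D F * a * (invol C D F)⁻¹) * (invol C D F * b * (invol C D F)⁻¹) by group]
        exact mul_mem ha hb
      | inv a _ ha =>
        rw [show invol C D F * a⁻¹ * (invol C D F)⁻¹ = (invol C D F * a * (invol C D F)⁻¹)⁻¹ by group]
        exact inv_mem ha
    have e : xg hD F k ((ChevOrder.chi (zc C D F) k : F) * t) * (invol C D F * g' * (invol C D F)⁻¹) = xg hD F k t * g' := by
      rw [← invol_conj hD (hpos k hk).1,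
        show invol C D F * xg hD F k t * (invol C D F)⁻¹ * (invol C D F * g' * (invol C D F)⁻¹) =
          invol C D F * (xg hD F k t * g') * (invol C D F)⁻¹ by group, hfg, mul_inv_cancel_right]
    obtain ⟨e1, e2⟩ := huniq _ _ _ (hconj g' hg') g' hg' e
    have hg'' := ih (T.erase k) hT'card (fun q hq => hpos q (Finset.mem_of_mem_erase hq)) hclosed' g' hg'
      (mul_inv_eq_iff_eq_mul.1 e2)
    have hmono : (matSys D hD F).genBy (((T.erase k).filter fun q => C.par D q % 2 = 0 : Finset ℕ) : Set ℕ) ≤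
        (matSys D hD F).genBy ((T.filter fun q => C.par D q % 2 = 0 : Finset ℕ) : Set ℕ) :=
      Subgroup.closure_mono fun x ⟨q, hq, u, hx⟩ =>
        ⟨q, Finset.mem_filter.2 ⟨Finset.mem_of_mem_erase (Finset.mem_filter.1 hq).1, (Finset.mem_filter.1 hq).2⟩, u, hx⟩
    refine mul_mem ?_ (hmono hg'')
    by_cases hk2 : C.par D k % 2 = 0
    · exact (matSys D hD F).x_mem_genBy (Finset.mem_filter.2 ⟨hk, hk2⟩) t
    · rw [chi_zc_of_odd hk2, Units.val_neg, Units.val_one] at e1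
      have ht : t = 0 := by
        have : (2 : F) * t = 0 := by linear_combination -e1
        exact (mul_eq_zero.1 this).resolve_left h2
      rw [ht, xg_zero]
      exact one_mem _

include hD in
theorem genBy_closed {o : ℕ → ℤ} (ho : OrdOK D o) {T : Finset ℕ}
    (hlt : ∀ q ∈ T, q < D.nroots ∧ 0 < o q)
    (hcl : ∀ r s τ, r ∈ T → s ∈ T → τ < D.nroots → ∀ i j : ℤ, 1 ≤ i → 1 ≤ j →
      (∀ f : ℕ → ℤ, IsLin D f → f τ = i * f r + j * f s) → τ ∈ T) :
    ∀ r ∈ T, ∀ s ∈ T, s ≠ r → ∀ τ ∈ D.commTerms r s, τ.1 ∈ T := by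
  intro r hr s hs hne τ hτ
  have hlin : IsLin D o := ⟨ho.add, ho.neg⟩
  obtain ⟨hr1, hr2⟩ := hlt r hr
  obtain ⟨hs1, hs2⟩ := hlt s hs
  have h₂ : s ≠ D.neg r := by rintro rfl; rw [hlin.neg r hr1] at hs2; omega
  obtain ⟨h3, h4, h5, -⟩ := hlin.commTerms hD hr1 hs1 hne h₂ hτ
  exact hcl r s τ.1 hr hs h3 (τ.2.2.1 : ℤ) (τ.2.2.2 : ℤ) (by exact_mod_cast h4) (by exact_mod_cast h5)
    fun f hf => (hf.commTerms hD hr1 hs1 hne h₂ hτ).2.2.2

variable (hC : InvOK C D M deg)
include hC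

include hR in
theorem mem_tPos {q : ℕ} : q ∈ tPos C D ↔ q < D.nroots ∧ D.IsPosRoot q ∧ C.par D q % 2 = 0 := by
  simp only [tPos, InvCert.sp, Finset.mem_map, Finset.mem_filter, Finset.mem_univ, true_and]
  refine ⟨?_, fun ⟨h1, h2⟩ => ⟨⟨q, h1⟩, (inS_iff hR hC h1).2 h2, rfl⟩⟩
  rintro ⟨p, hp, rfl⟩
  exact ⟨p.isLt, (inS_iff hR hC p.isLt).1 hp⟩

include hR in
theorem mem_tNeg {w : Equiv.Perm (Fin D.nroots)} {q : ℕ} :
    q ∈ tNeg C D w ↔ ∃ hq : q < D.nroots, D.IsPosRoot q ∧ C.par D q % 2 = 0 ∧ ¬ D.IsPosRoot (w ⟨q, hq⟩).val := by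
  simp only [tNeg, InvCert.sp, Finset.mem_map, Finset.mem_filter, Finset.mem_univ, true_and]
  constructor
  · rintro ⟨p, ⟨hp, hw⟩, rfl⟩
    refine ⟨p.isLt, ((inS_iff hR hC p.isLt).1 hp).1, ((inS_iff hR hC p.isLt).1 hp).2, fun h => ?_⟩
    replace h : D.IsPosRoot (w p).val := h
    rw [← pos_iff hR hC (w p).isLt, hw] at h
    exact Bool.noConfusion h
  · rintro ⟨hq, h1, h2, h3⟩
    refine ⟨⟨q, hq⟩, ⟨(inS_iff hR hC hq).2 ⟨h1, h2⟩, ?_⟩, rfl⟩
    rw [← pos_iff hR hC (w _).isLt, Bool.not_eq_true] at h3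
    exact h3

include hD hR in
theorem closed_tPos {o : ℕ → ℤ} (ho : OrdOK D o) :
    (∀ q ∈ tPos C D, q < D.nroots ∧ 0 < o q) ∧
      ∀ r ∈ tPos C D, ∀ s ∈ tPos C D, s ≠ r → ∀ τ ∈ D.commTerms r s, τ.1 ∈ tPos C D := by
  have h1 : ∀ q ∈ tPos C D, q < D.nroots ∧ 0 < o q := fun q hq =>
    ⟨((mem_tPos hR hC).1 hq).1, (ho.pos_iff q ((mem_tPos hR hC).1 hq).1).1 ((mem_tPos hR hC).1 hq).2.1⟩
  refine ⟨h1, genBy_closed hD ho h1 fun r s τ hr hs hτ i j hi hj h => (mem_tPos hR hC).2 ⟨hτ, ?_, ?_⟩⟩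
  · rw [ho.pos_iff τ hτ, h o ⟨ho.add, ho.neg⟩]
    have := (h1 r hr).2
    have := (h1 s hs).2
    positivity
  · rw [h _ (isLin_par hD)]
    have e1 := ((mem_tPos hR hC).1 hr).2.2
    have e2 := ((mem_tPos hR hC).1 hs).2.2
    rw [Int.add_emod, Int.mul_emod, e1, Int.mul_emod j, e2]
    simp

include hR in
theorem closed_tNeg {o : ℕ → ℤ} (ho : OrdOK D o) (l : List (Fin D.rank)) :
    (∀ q ∈ tNeg C D (pw hD l), q < D.nroots ∧ 0 < o q) ∧
      ∀ r ∈ tNeg C D (pw hD l), ∀ s ∈ tNeg C D (pw hD l), s ≠ r →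
        ∀ τ ∈ D.commTerms r s, τ.1 ∈ tNeg C D (pw hD l) := by
  have h1 : ∀ q ∈ tNeg C D (pw hD l), q < D.nroots ∧ 0 < o q := fun q hq => by
    obtain ⟨h, h', -⟩ := (mem_tNeg hR hC).1 hq
    exact ⟨h, (ho.pos_iff q h).1 h'⟩
  refine ⟨h1, genBy_closed hD ho h1 fun r s τ hr hs hτ i j hi hj h => ?_⟩
  obtain ⟨hr0, hr1, hr2, hr3⟩ := (mem_tNeg hR hC).1 hr
  obtain ⟨hs0, hs1, hs2, hs3⟩ := (mem_tNeg hR hC).1 hs
  refine (mem_tNeg hR hC).2 ⟨hτ, ?_, ?_, ?_⟩
  · rw [ho.pos_iff τ hτ, h o ⟨ho.add, ho.neg⟩]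
    have := (h1 r hr).2
    have := (h1 s hs).2
    positivity
  · rw [h _ (isLin_par hD), Int.add_emod, Int.mul_emod, hr2, Int.mul_emod j, hs2]
    simp
  · obtain ⟨g, hg, eg⟩ := exists_lin_comp hD hR (f := o) ⟨ho.add, ho.neg⟩ l
    simp only [pw_apply] at hr3 hs3 ⊢
    rw [ho.pos_iff _ (wlist_lt hD l hr0), ← eg r hr0] at hr3
    rw [ho.pos_iff _ (wlist_lt hD l hs0), ← eg s hs0] at hs3
    rw [ho.pos_iff _ (wlist_lt hD l hτ), ← eg τ hτ, h g hg]
    nlinarith

include hR in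
/-- Factors of the decomposition. -/
theorem mem_tPos_of_comm [Finite F] (h2 : (2 : F) ≠ 0) {v : GL D.Idx F} (hv : v ∈ D.posUnipotent F)
    (hc : invol C D F * v = v * invol C D F) : v ∈ (matSys D hD F).genBy (tPos C D : Set ℕ) := by
  obtain ⟨o, ho⟩ := hD.order
  have hmem : ∀ r, r ∈ ((Finset.range D.nroots).filter fun r => D.IsPosRoot r) ↔ r < D.nroots ∧ 0 < o r := fun r => by
    simp only [Finset.mem_filter, Finset.mem_range]
    exact and_congr_right fun hr => ho.pos_iff r hr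
  have h := genBy_even hD h2 (C := C) (f := o) ⟨ho.add, ho.neg⟩ _ ((Finset.range D.nroots).filter fun r => D.IsPosRoot r) rfl (fun q hq => (hmem q).1 hq)
    (genBy_closed hD ho (fun q hq => (hmem q).1 hq) fun r s τ hr hs hτ i j hi hj h => (hmem τ).2 ⟨hτ, by
      rw [h o ⟨ho.add, ho.neg⟩]
      have := ((hmem r).1 hr).2
      have := ((hmem s).1 hs).2
      positivity⟩) v ?_ hc
  · refine Subgroup.closure_mono ?_ h
    rintro x ⟨q, hq, u, e⟩
    obtain ⟨hq1, hq2⟩ := Finset.mem_filter.1 hq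
    obtain ⟨hq3, hq4⟩ := Finset.mem_filter.1 hq1
    exact ⟨q, (mem_tPos hR hC).2 ⟨Finset.mem_range.1 hq3, hq4, hq2⟩, u, e⟩
  · refine Subgroup.closure_mono ?_ hv
    rintro g ⟨r, t, hr, hg⟩
    exact ⟨r, (hmem r).2 ⟨hr.1, (ho.pos_iff r hr.1).1 hr⟩, t, Units.ext hg⟩

include hR in
theorem mem_tNeg_of_comm [Finite F] (h2 : (2 : F) ≠ 0) (l : List (Fin D.rank)) {u : GL D.Idx F}
    (hu : u ∈ (chevRGD hD hR F).Uminus l) (hc : invol C D F * u = u * invol C D F) :
    u ∈ (matSys D hD F).genBy (tNeg C D (pw hD l) : Set ℕ) := by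
  obtain ⟨o, ho⟩ := hD.order
  classical
  set T := (Finset.range D.nroots).filter fun r => D.IsPosRoot r ∧ ¬ D.IsPosRoot (wlist D l r) with hT
  have hmem : ∀ r, r ∈ T ↔ r < D.nroots ∧ 0 < o r ∧ o (wlist D l r) < 0 := fun r => by
    simp only [hT, Finset.mem_filter, Finset.mem_range]
    refine and_congr_right fun hr => ?_
    rw [ho.pos_iff r hr, ho.pos_iff _ (wlist_lt hD l hr)]
    have := ho.ne_zero _ (wlist_lt hD l hr)
    omega
  obtain ⟨g, hg, eg⟩ := exists_lin_comp hD hR (f := o) ⟨ho.add, ho.neg⟩ l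
  have hpos : ∀ q ∈ T, q < D.nroots ∧ 0 < o q := fun q hq => ⟨((hmem q).1 hq).1, ((hmem q).1 hq).2.1⟩
  have h := genBy_even hD h2 (C := C) (f := o) ⟨ho.add, ho.neg⟩ _ T rfl hpos
    (genBy_closed hD ho hpos fun r s τ hr hs hτ i j hi hj h => by
      obtain ⟨hr0, hr1, hr2⟩ := (hmem r).1 hr
      obtain ⟨hs0, hs1, hs2⟩ := (hmem s).1 hs
      refine (hmem τ).2 ⟨hτ, ?_, ?_⟩
      · rw [h o ⟨ho.add, ho.neg⟩]; positivity
      · rw [← eg r hr0] at hr2
        rw [← eg s hs0] at hs2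
        rw [← eg τ hτ, h g hg]
        nlinarith) u ?_ hc
  · refine Subgroup.closure_mono ?_ h
    rintro x ⟨q, hq, v, e⟩
    obtain ⟨hq1, hq2⟩ := Finset.mem_filter.1 hq
    obtain ⟨hq3, hq4, hq5⟩ := Finset.mem_filter.1 hq1
    exact ⟨q, (mem_tNeg hR hC).2 ⟨Finset.mem_range.1 hq3, hq4, hq2, by rwa [pw_apply]⟩, v, e⟩
  · refine (RGD.RootData.span_le (chevRGD hD hR F) fun r hr => ?_) hu
    intro x hx
    obtain ⟨t, rfl⟩ := (mem_rootSubgroup hD _).1 hx
    refine (matSys D hD F).x_mem_genBy ?_ t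
    obtain ⟨hr1, hr2⟩ := hr
    have hr2' : ¬ D.IsPosRoot ((chevRGD hD hR F).ww l r).val := hr2
    rw [ww_eq_pw hD hR, pw_apply] at hr2'
    exact Finset.mem_coe.2 (Finset.mem_filter.2 ⟨Finset.mem_range.2 r.isLt, hr1, hr2'⟩)

omit hC in
include hD in
theorem genBy_comm_invol {T : Finset ℕ} (hT : ∀ q ∈ T, q < D.nroots ∧ C.par D q % 2 = 0) {g : GL D.Idx F}
    (hg : g ∈ (matSys D hD F).genBy (T : Set ℕ)) : invol C D F * g = g * invol C D F := by
  have : (matSys D hD F).genBy (T : Set ℕ) ≤ Subgroup.centralizer {invol C D F} := by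
    refine (Subgroup.closure_le _).2 ?_
    rintro x ⟨q, hq, u, rfl⟩
    exact Subgroup.mem_centralizer_singleton_iff.2 (invol_comm_xg hD (hT q hq).1 (hT q hq).2 u).symm
  exact (Subgroup.mem_centralizer_singleton_iff.1 (this hg)).symm

omit hC in
include hD in
theorem diag_comm_invol {h : GL D.Idx F} (hh : h ∈ D.diagonalSubgroup F) :
    invol C D F * h = h * invol C D F :=
  diag_commute hD ((torusHom_range (F := F) hD).le ⟨_, rfl⟩) hh

include hR in
/-- The shape of an element commuting with the involution. -/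
theorem exists_dec [Finite F] (h2 : (2 : F) ≠ 0) {g : GL D.Idx F} (hg : g ∈ D.group F)
    (hc : g * invol C D F = invol C D F * g) :
    ∃ v ∈ (matSys D hD F).genBy (tPos C D : Set ℕ), ∃ h ∈ D.diagonalSubgroup F, ∃ l : List (Fin D.rank),
      pw hD l ∈ stab hD C ∧ ∃ u ∈ (matSys D hD F).genBy (tNeg C D (pw hD l) : Set ℕ),
        g = v * h * (chevRGD hD hR F).nw l * u := by
  set R := chevRGD hD hR F
  rw [← chev_G hD hR] at hg
  obtain ⟨b, hb, l, u, hu, rfl⟩ := R.exists_normalForm hg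
  obtain ⟨v, hv, h, hh, rfl⟩ := R.exists_B hb
  set z := invol C D F with hz
  have hzH : z ∈ R.H := (torusHom_range (F := F) hD).le ⟨_, rfl⟩
  set m := R.nw l * z⁻¹ * (R.nw l)⁻¹ with hm
  have hmH : m ∈ R.H := R.nw_conj_H l (inv_mem hzH)
  have e : v * h * R.nw l * u = z * (v * h) * m * R.nw l * (z * u * z⁻¹) := by
    calc v * h * R.nw l * u = z * (v * h * R.nw l * u) * z⁻¹ := by rw [← hc, mul_inv_cancel_right]
      _ = _ := by rw [hm]; group
  obtain ⟨ebb, euu⟩ := R.normalForm_unique (k := 1) (one_mem _) (one_mul _).symm hb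
    (mul_mem (mul_mem (R.H_le_B hzH) hb) (R.H_le_B hmH)) hu (R.H_conj_span _ hzH _ hu) e
  have hvU : z * v * z⁻¹ ∈ R.Upos := R.H_conj_span _ hzH _ hv
  have hv1 : (z * v * z⁻¹) * (z * h * m) = v * h := by
    calc (z * v * z⁻¹) * (z * h * m) = z * (v * h) * m := by group
      _ = v * h := ebb.symm
  have h3 : v⁻¹ * (z * v * z⁻¹) = h * (z * h * m)⁻¹ := by
    rw [inv_mul_eq_iff_eq_mul, ← mul_assoc, ← hv1, mul_inv_cancel_right]
  have h4 : v⁻¹ * (z * v * z⁻¹) = 1 := by
    rw [← Subgroup.mem_bot, ← R.U_inf_H]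
    exact ⟨R.Upos.mul_mem (R.Upos.inv_mem hv) hvU,
      h3 ▸ R.H.mul_mem hh (R.H.inv_mem (R.H.mul_mem (R.H.mul_mem hzH hh) hmH))⟩
  have hvz : z * v = v * z := mul_inv_eq_iff_eq_mul.1 (inv_mul_eq_one.1 h4).symm
  have huz : z * u = u * z := mul_inv_eq_iff_eq_mul.1 euu.symm
  have hhz : z * h = h * z := diag_comm_invol hD hh
  have hnz : R.nw l * z = z * R.nw l := by
    have : v * h * (R.nw l * z) * u = v * h * (z * R.nw l) * u := by
      calc v * h * (R.nw l * z) * u = v * h * R.nw l * (u * z) := by rw [← huz]; group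
        _ = v * h * R.nw l * u * z := by group
        _ = z * (v * h * R.nw l * u) := hc
        _ = _ := by rw [← mul_assoc z, ← mul_assoc z, ← mul_assoc z, hvz, mul_assoc v z, hhz]; group
    exact mul_left_cancel (mul_right_cancel this)
  rw [chev_Upos hD hR] at hv
  exact ⟨v, mem_tPos_of_comm hD hR hC h2 hv hvz, h, hh, l, (nw_comm_invol_iff hD hR h2 l).1 hnz,
    u, mem_tNeg_of_comm hD hR hC h2 l hu huz, rfl⟩

omit hC in
/-- A chosen word of an element of the stabiliser. -/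
noncomputable def word' (w : stab hD C) : List (Fin D.rank) := w.2.1.choose

omit hC in
theorem pw_word' (w : stab hD C) : pw hD (word' hD w) = w.val := w.2.1.choose_spec

include hD hR in
/-- The order of the centraliser. -/
theorem card_centralizer [Finite F] (h2 : (2 : F) ≠ 0) :
    (Nat.card {g : GL D.Idx F // g ∈ D.group F ∧ g * invol C D F = invol C D F * g} : ℤ) =
      (Nat.card F : ℤ) ^ (C.sp D).card * (deg.map fun d => (Nat.card F : ℤ) ^ d - 1).prod := by
  classical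
  obtain ⟨o, ho⟩ := hD.order
  set R := chevRGD hD hR F
  let S := matSys D hD F
  let A := Σ w : stab hD C, S.genBy (tPos C D : Set ℕ) × (Fin D.rank → Fˣ) × S.genBy (tNeg C D w.val : Set ℕ)
  let Φ : A → GL D.Idx F := fun x =>
    x.2.1.val * torusHom D F x.2.2.1 * R.nw (word' hD x.1) * x.2.2.2.val
  have hTp : ∀ q ∈ tPos C D, q < D.nroots ∧ C.par D q % 2 = 0 := fun q hq =>
    ⟨((mem_tPos hR hC).1 hq).1, ((mem_tPos hR hC).1 hq).2.2⟩
  have hTn : ∀ w, ∀ q ∈ tNeg C D w, q < D.nroots ∧ C.par D q % 2 = 0 := fun w q hq => by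
    obtain ⟨h, -, h', -⟩ := (mem_tNeg hR hC).1 hq
    exact ⟨h, h'⟩
  have hT : ∀ c, torusHom D F c ∈ D.diagonalSubgroup F := fun c => (torusHom_range (F := F) hD).le ⟨c, rfl⟩
  have hUp : ∀ T : Finset ℕ, (∀ q ∈ T, q < D.nroots ∧ D.IsPosRoot q) →
      S.genBy (T : Set ℕ) ≤ D.posUnipotent F := fun T hT' => (Subgroup.closure_le _).2 (by
    rintro _ ⟨q, hq, t, rfl⟩
    exact Subgroup.subset_closure ⟨q, t, (hT' q hq).2, coe_xg hD q t⟩)
  have hVp : S.genBy (tPos C D : Set ℕ) ≤ D.posUnipotent F :=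
    hUp _ fun q hq => ⟨((mem_tPos hR hC).1 hq).1, ((mem_tPos hR hC).1 hq).2.1⟩
  have hUm : ∀ w : stab hD C, S.genBy (tNeg C D w.val : Set ℕ) ≤ R.Uminus (word' hD w) := fun w =>
    (Subgroup.closure_le _).2 (by
      rintro _ ⟨q, hq, t, rfl⟩
      obtain ⟨hq', h1, -, h3⟩ := (mem_tNeg hR hC).1 hq
      refine R.U_le_span (A := {r | R.pos r ∧ ¬ R.pos (R.ww (word' hD w) r)}) (r := ⟨q, hq'⟩) ⟨h1, ?_⟩
        (xg_mem_rootSubgroup hD _ _)
      show ¬ D.IsPosRoot _
      rw [ww_eq_pw hD hR, pw_word']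
      exact h3)
  have hmem : ∀ x : A, Φ x ∈ D.group F ∧ Φ x * invol C D F = invol C D F * Φ x := by
    rintro ⟨w, v, c, u⟩
    refine ⟨?_, ?_⟩
    · show v.val * torusHom D F c * R.nw (word' hD w) * u.val ∈ _
      rw [← chev_G hD hR]
      refine mul_mem (mul_mem (mul_mem (R.B_le_G (R.Upos_le_B ?_)) (R.B_le_G (R.H_le_B (hT c))))
        (R.N_le_G (R.nw_mem_N _))) (R.B_le_G (R.Upos_le_B (R.Uminus_le_Upos _ (hUm w u.2))))
      rw [chev_Upos hD hR]
      exact hVp v.2
    · have h : v.val * torusHom D F c * R.nw (word' hD w) * u.val ∈ Subgroup.centralizer {invol C D F} := by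
        refine mul_mem (mul_mem (mul_mem ?_ ?_) ?_) ?_ <;> rw [Subgroup.mem_centralizer_singleton_iff]
        · exact (genBy_comm_invol hD hTp v.2).symm
        · exact (diag_comm_invol hD (hT c)).symm
        · exact (nw_comm_invol_iff hD hR h2 _).2 (by rw [pw_word']; exact w.2)
        · exact (genBy_comm_invol hD (hTn _) u.2).symm
      exact Subgroup.mem_centralizer_singleton_iff.1 h
  have hinj : Function.Injective Φ := by
    rintro ⟨w, v, c, u⟩ ⟨w', v', c', u'⟩ e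
    have e0 : v.val * torusHom D F c * R.nw (word' hD w) * u.val =
        v'.val * torusHom D F c' * R.nw (word' hD w') * u'.val := e
    have hB : ∀ (v : S.genBy (tPos C D : Set ℕ)) (c : Fin D.rank → Fˣ), v.val * torusHom D F c ∈ R.B :=
      fun v c => mul_mem (R.Upos_le_B (by rw [chev_Upos hD hR]; exact hVp v.2)) (R.H_le_B (hT c))
    have hk := R.mem_H_of_eq (R.nw_mem_N (word' hD w)) (R.nw_mem_N (word' hD w')) (hB v c)
      (R.Upos_le_B (R.Uminus_le_Upos _ (hUm w u.2))) (hB v' c')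
      (R.Upos_le_B (R.Uminus_le_Upos _ (hUm w' u'.2))) e0
    have hk' : R.nw (word' hD w') * (R.nw (word' hD w))⁻¹ ∈ R.H := by
      have := R.nw_conj_H (word' hD w) hk
      rwa [← mul_assoc, mul_inv_cancel, one_mul] at this
    obtain rfl : w = w' := by
      refine Subtype.ext ?_
      rw [← pw_word' hD w, ← pw_word' hD w']
      refine Equiv.ext fun r => Fin.ext ?_
      rw [pw_apply, pw_apply]
      have p1 := (ChevInvolOdd.perms_diag hD hk').mul hD (perms_nw hD hR (F := F) (word' hD w))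
      rw [inv_mul_cancel_right] at p1
      exact p1.unique hD (perms_nw hD hR (F := F) (word' hD w')) r.isLt
    obtain ⟨eb, eu⟩ := R.normalForm_unique (k := 1) (one_mem _) (one_mul _).symm (hB v c) (hB v' c')
      (hUm w u.2) (hUm w u'.2) e0
    have e1 : v'.val⁻¹ * v.val = torusHom D F c' * (torusHom D F c)⁻¹ := by
      rw [inv_mul_eq_iff_eq_mul, ← mul_assoc, ← eb, mul_inv_cancel_right]
    have e2 : v'.val⁻¹ * v.val ∈ D.posUnipotent F ⊓ D.diagonalSubgroup F :=
      Subgroup.mem_inf.2 ⟨mul_mem (inv_mem (hVp v'.2)) (hVp v.2), e1 ▸ mul_mem (hT c') (inv_mem (hT c))⟩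
    rw [posUnipotent_inf_diagonal hD, Subgroup.mem_bot] at e2
    obtain rfl : v = v' := Subtype.ext (inv_mul_eq_one.1 e2).symm
    rw [e2] at e1
    obtain rfl : c = c' := by
      have e3 : torusHom D F (c' * c⁻¹) = 1 := by rw [map_mul, map_inv, ← e1]
      funext i
      have e4 := ChevLang.exists_chi_one hD hR e3 i
      rw [zpow_one, Pi.mul_apply, Pi.inv_apply, mul_inv_eq_one] at e4
      exact e4.symm
    obtain rfl : u = u' := Subtype.ext eu
    rfl
  let Ψ : A → {g : GL D.Idx F // g ∈ D.group F ∧ g * invol C D F = invol C D F * g} := fun x => ⟨Φ x, hmem x⟩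
  have hbij : Function.Bijective Ψ := by
    refine ⟨fun a b e => hinj (congrArg Subtype.val e), fun ⟨g, hg, hc⟩ => ?_⟩
    obtain ⟨v, hv, h, hh, l, hl, u, hu, rfl⟩ := exists_dec hD hR hC h2 hg hc
    set w : stab hD C := ⟨pw hD l, hl⟩ with hw
    obtain ⟨k, hk, ek⟩ := exists_diag_of_pw_eq hD hR (F := F) (l := l) (l' := word' hD w) (pw_word' hD w).symm
    obtain ⟨c, hc'⟩ := (torusHom_range (F := F) hD).ge (mul_mem hh hk)
    refine ⟨⟨w, ⟨v, hv⟩, c, ⟨u, hu⟩⟩, Subtype.ext ?_⟩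
    show v * torusHom D F c * R.nw (word' hD w) * u = v * h * R.nw l * u
    rw [hc', show R.nw l = k * R.nw (word' hD w) from ek]
    group
  rw [← Nat.card_congr (Equiv.ofBijective Ψ hbij), Nat.card_sigma]
  have hV : Nat.card (S.genBy (tPos C D : Set ℕ)) = Nat.card F ^ (C.sp D).card := by
    rw [card_genBy S hD (f := o) ⟨ho.add, ho.neg⟩ _ _ rfl (closed_tPos hD hR hC ho).1 (closed_tPos hD hR hC ho).2,
      tPos, Finset.card_map]
  have hW : ∀ w : stab hD C, Nat.card (S.genBy (tNeg C D w.val : Set ℕ)) = Nat.card F ^ nInv C D w.val := by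
    intro w
    rw [← pw_word' hD w, card_genBy S hD (f := o) ⟨ho.add, ho.neg⟩ _ _ rfl (closed_tNeg hD hR hC ho _).1
      (closed_tNeg hD hR hC ho _).2, tNeg, Finset.card_map, nInv]
  have hq : 1 ≤ Nat.card F := Nat.card_pos
  have hu : Nat.card Fˣ = Nat.card F - 1 := Nat.card_units F
  simp only [Nat.card_prod, Nat.card_pi, hV, hW, hu, Finset.prod_const, Finset.card_univ, Fintype.card_fin]
  push_cast [Nat.cast_sub hq]
  rw [← sum_stab hD hR hC (Nat.card F : ℤ), gSum, Finset.mul_sum, Finset.mul_sum]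

end Cfsg.Agent.ChevInv
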