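import Cfsg.Agent.EqLemmas
import Cfsg.Agent.Lib.ChevInv.Cert
import Cfsg.Agent.Lib.ChevBN.RootTables

/-!
# A class of involutions of F4: 16 positive even roots
-/

set_option autoImplicit false
set_option linter.style.longLine false

namespace Cfsg.Agent.ChevInv.TabF4a

/-- Root coordinates, part 0. -/
def co0 : List (List ℤ) := [
    [-2, -4, -3, -2],
    [-2, -4, -3, -1],
    [-2, -4, -2, -1],
    [-2, -3, -2, -1],
    [-2, -2, -2, -1],
    [-2, -2, -1, -1],
    [-2, -2, -1, 0],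
    [-1, -3, -2, -1],
    [-1, -2, -2, -1],
    [-1, -2, -1, -1],
    [-1, -2, -1, 0],
    [-1, -1, -1, -1],
    [-1, -1, -1, 0],
    [-1, -1, 0, 0],
    [-1, 0, 0, 0],
    [0, -2, -2, -1],
    [0, -2, -1, -1],
    [0, -2, -1, 0],
    [0, -1, -1, -1],
    [0, -1, -1, 0]]

/-- Root coordinates, part 1. -/
def co1 : List (List ℤ) := [
    [0, -1, 0, 0],
    [0, 0, -1, -1],
    [0, 0, -1, 0],
    [0, 0, 0, -1],
    [0, 0, 0, 1],
    [0, 0, 1, 0],
    [0, 0, 1, 1],
    [0, 1, 0, 0],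
    [0, 1, 1, 0],
    [0, 1, 1, 1],
    [0, 2, 1, 0],
    [0, 2, 1, 1],
    [0, 2, 2, 1],
    [1, 0, 0, 0],
    [1, 1, 0, 0],
    [1, 1, 1, 0],
    [1, 1, 1, 1],
    [1, 2, 1, 0],
    [1, 2, 1, 1],
    [1, 2, 2, 1]]

/-- Root coordinates, part 2. -/
def co2 : List (List ℤ) := [
    [1, 3, 2, 1],
    [2, 2, 1, 0],
    [2, 2, 1, 1],
    [2, 2, 2, 1],
    [2, 3, 2, 1],
    [2, 4, 2, 1],
    [2, 4, 3, 1],
    [2, 4, 3, 2]]

/-- The data. -/
def cert : InvCert where
  bits := [0, 1, 0, 0]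
  CO := co0 ++ co1 ++ co2
  posMask := 281474959933440
  evenMask := 279284543357055
  pi := [27, 25, 24, 41]
  words := [
    [1],
    [2],
    [3],
    [0, 1, 2, 1, 0]]
  T := [
    7261719905179377314326951809577084366435515108925945206036271551105028264520922437528663364052125838431098365018368,
    7261125723798567773061544950201179012210677350992756811983071709623601191490907863340615466535151168674041335710208,
    7108411742389255762021063953019659246634323563397623500971045033854480450961950488139841120255260502304031118589953,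
    7253274407758384399862032026663035553446900065980632858690771050929501419850513861990307270949750447046029825019648]
  dec := [(26, 25, 24), (28, 27, 25), (29, 27, 26), (30, 27, 28), (31, 27, 29), (32, 25, 31), (42, 24, 41), (43, 25, 42), (44, 27, 43), (45, 27, 44), (46, 25, 45), (47, 24, 46)]
  gs := [-2, 2, 2, 2]
  levels := [
    ⟨[-1, 1, 1, 1],
      [[], [0]],
      [0, 1],
      [[(1, 0)], [(0, 0)]]⟩,
    ⟨[0, 0, 1, 1],
      [[], [1], [0, 1], [1, 0, 1]],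
      [0, 1, 2, 3],
      [[(0, 1), (1, 0)], [(2, 0), (0, 0)], [(1, 0), (3, 0)], [(3, 1), (2, 0)]]⟩,
    ⟨[1, 0, 0, 2],
      [[], [2], [1, 2], [0, 1, 2], [1, 0, 1, 2], [2, 1, 0, 1, 2]],
      [0, 1, 2, 3, 4, 5],
      [[(0, 1), (0, 2), (1, 0)], [(1, 1), (2, 0), (0, 0)], [(3, 0), (1, 0), (2, 2)], [(2, 0), (4, 0), (3, 2)], [(4, 1), (3, 0), (5, 0)], [(5, 1), (5, 2), (4, 0)]]⟩,
    ⟨[1, 0, 0, 0],
      [[], [3], [2, 3], [1, 2, 3], [0, 1, 2, 3], [1, 0, 1, 2, 3], [2, 1, 0, 1, 2, 3], [3, 2, 1, 0, 1, 2, 3]],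
      [0, 1, 2, 3, 4, 5, 6, 7],
      [[(0, 1), (0, 2), (0, 3), (1, 0)], [(1, 1), (1, 2), (2, 0), (0, 0)], [(2, 1), (3, 0), (1, 0), (2, 3)], [(4, 0), (2, 0), (3, 2), (3, 3)], [(3, 0), (5, 0), (4, 2), (4, 3)], [(5, 1), (4, 0), (6, 0), (5, 3)], [(6, 1), (6, 2), (5, 0), (7, 0)], [(7, 1), (7, 2), (7, 3), (6, 0)]]⟩]

/-- The degrees. -/
def degrees : List ℕ := [2, 4, 6, 8]

/-- Multiples of the fundamental coweights in the coroots of the fundamental even roots. -/
def torus : List (List ℤ) := [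
    [-1, -1, 0, 1],
    [1, 0, 0, 0],
    [0, 1, 0, 0],
    [0, 0, 1, 0]]

/-- The multiplier. -/
def torusN : ℕ := 1

end Cfsg.Agent.ChevInv.TabF4a
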