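import Cfsg.Agent.EqLemmas
import Cfsg.Agent.Lib.ChevInv.TabF4a

/-!
# The checks for the data of `TabF4a`
-/

set_option autoImplicit false
set_option maxRecDepth 100000

namespace Cfsg.Agent.ChevInv.TabF4a

open Cfsg.Lie Cfsg.Agent.ChevBN

theorem ok : InvOK cert chevF4 adjF4 degrees where
  nroots := by decide +kernel
  coroot := by decide +kernel
  tableCO := by decide +kernel
  pos := by decide +kernel
  even := by decide +kernel
  evenNeg := by decide +kernel
  root := by decide +kernel
  table := by decide +kernel
  wordOK := by decide +kernel
  decs := by decide +kernel
  gsum := by decide +kernel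
  rigid := by decide +kernel
  chain := by decide +kernel
  len := by decide +kernel
  poly := by decide +kernel

end Cfsg.Agent.ChevInv.TabF4a
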