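import Cfsg.Agent.EqLemmas
import Cfsg.Agent.Lib.ChevInv.Cert
import Cfsg.Agent.Lib.ChevBN.RootTables

/-!
# The whole Weyl group of F4 as a certificate: 24 positive roots
-/

set_option autoImplicit false
set_option linter.style.longLine false

namespace Cfsg.Agent.ChevInv.TabF4w

/-- Root coordinates, part 0. -/
def co0 : List (List ℤ) := [
    [-2, -4, -3, -2],
    [-2, -4, -3, -1],
    [-2, -4, -2, -1],
    [-2, -3, -2, -1],
    [-2, -2, -2, -1],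
    [-2, -2, -1, -1],
    [-2, -2, -1, 0],
    [-1, -3, -2, -1],
    [-1, -2, -2, -1],
    [-1, -2, -1, -1],
    [-1, -2, -1, 0],
    [-1, -1, -1, -1],
    [-1, -1, -1, 0],
    [-1, -1, 0, 0],
    [-1, 0, 0, 0],
    [0, -2, -2, -1],
    [0, -2, -1, -1],
    [0, -2, -1, 0],
    [0, -1, -1, -1],
    [0, -1, -1, 0]]

/-- Root coordinates, part 1. -/
def co1 : List (List ℤ) := [
    [0, -1, 0, 0],
    [0, 0, -1, -1],
    [0, 0, -1, 0],
    [0, 0, 0, -1],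
    [0, 0, 0, 1],
    [0, 0, 1, 0],
    [0, 0, 1, 1],
    [0, 1, 0, 0],
    [0, 1, 1, 0],
    [0, 1, 1, 1],
    [0, 2, 1, 0],
    [0, 2, 1, 1],
    [0, 2, 2, 1],
    [1, 0, 0, 0],
    [1, 1, 0, 0],
    [1, 1, 1, 0],
    [1, 1, 1, 1],
    [1, 2, 1, 0],
    [1, 2, 1, 1],
    [1, 2, 2, 1]]

/-- Root coordinates, part 2. -/
def co2 : List (List ℤ) := [
    [1, 3, 2, 1],
    [2, 2, 1, 0],
    [2, 2, 1, 1],
    [2, 2, 2, 1],
    [2, 3, 2, 1],
    [2, 4, 2, 1],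
    [2, 4, 3, 1],
    [2, 4, 3, 2]]

/-- The data. -/
def cert : InvCert where
  bits := [0, 0, 0, 0]
  CO := co0 ++ co1 ++ co2
  posMask := 281474959933440
  evenMask := 281474976710655
  pi := [27, 25, 33, 24]
  words := [
    [1],
    [2],
    [0],
    [3]]
  T := [
    7261719905179377314326951809577084366435515108925945206036271551105028264520922437528663364052125838431098365018368,
    7261125723798567773061544950201179012210677350992756811983071709623601191490907863340615466535151168674041335710208,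
    7261724565101152271001196648824430191705409898545041084742521782222439549395075633586971079114467536390968217567488,
    7108411742389255762021063953019659246634323563397623500971045033854480450961950488139841120255260502304031118589953]
  dec := [(26, 25, 24), (28, 27, 25), (34, 27, 33), (29, 27, 26), (30, 27, 28), (35, 25, 34), (31, 27, 29), (36, 33, 29), (37, 27, 35), (32, 25, 31), (38, 27, 36), (41, 33, 37), (39, 25, 38), (42, 33, 38), (40, 27, 39), (43, 25, 42), (44, 27, 43), (45, 27, 44), (46, 25, 45), (47, 24, 46)]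
  gs := [2, 2, 2, 2]
  levels := [
    ⟨[1, 1, 1, 1],
      [[], [0]],
      [0, 1],
      [[(1, 0)], [(0, 0)]]⟩,
    ⟨[1, 0, 1, 1],
      [[], [1], [0, 1], [1, 0, 1]],
      [0, 1, 2, 3],
      [[(0, 1), (1, 0)], [(2, 0), (0, 0)], [(1, 0), (3, 0)], [(3, 1), (2, 0)]]⟩,
    ⟨[1, 0, 0, 1],
      [[], [2], [0, 2], [1, 0, 2], [0, 1, 0, 2], [2, 0, 1, 0, 2]],
      [0, 1, 2, 3, 4, 5],
      [[(0, 1), (0, 2), (1, 0)], [(2, 0), (1, 2), (0, 0)], [(1, 0), (3, 0), (2, 1)], [(4, 0), (2, 0), (3, 1)], [(3, 0), (4, 2), (5, 0)], [(5, 1), (5, 2), (4, 0)]]⟩,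
    ⟨[0, 0, 0, 1],
      [[], [3], [1, 3], [0, 1, 3], [1, 0, 1, 3], [2, 0, 1, 3], [2, 1, 0, 1, 3], [3, 1, 0, 1, 3], [0, 2, 1, 0, 1, 3], [3, 2, 1, 0, 1, 3], [1, 0, 2, 1, 0, 1, 3], [3, 0, 2, 1, 0, 1, 3], [3, 1, 0, 2, 1, 0, 1, 3], [1, 3, 0, 2, 1, 0, 1, 3], [1, 3, 1, 0, 2, 1, 0, 1, 3], [0, 1, 3, 0, 2, 1, 0, 1, 3], [0, 1, 3, 1, 0, 2, 1, 0, 1, 3], [2, 0, 1, 3, 0, 2, 1, 0, 1, 3], [1, 0, 1, 3, 1, 0, 2, 1, 0, 1, 3], [2, 0, 1, 3, 1, 0, 2, 1, 0, 1, 3], [2, 1, 0, 1, 3, 1, 0, 2, 1, 0, 1, 3], [0, 2, 1, 0, 1, 3, 1, 0, 2, 1, 0, 1, 3], [1, 0, 2, 1, 0, 1, 3, 1, 0, 2, 1, 0, 1, 3], [3, 1, 0, 2, 1, 0, 1, 3, 1, 0, 2, 1, 0, 1, 3]],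
      [0, 1, 2, 3, 4, 4, 5, 5, 6, 6, 7, 7, 8, 8, 9, 9, 10, 10, 11, 11, 12, 13, 14, 15],
      [[(0, 1), (0, 2), (0, 3), (1, 0)], [(1, 1), (2, 0), (1, 3), (0, 0)], [(3, 0), (1, 0), (2, 3), (2, 2)], [(2, 0), (4, 0), (5, 0), (3, 2)], [(4, 1), (3, 0), (6, 0), (7, 0)], [(5, 3), (6, 0), (3, 0), (5, 2)], [(8, 0), (5, 0), (4, 0), (9, 0)], [(7, 1), (7, 2), (9, 0), (4, 0)], [(6, 0), (10, 0), (8, 1), (11, 0)], [(11, 0), (9, 2), (7, 0), (6, 0)], [(10, 3), (8, 0), (10, 1), (12, 0)], [(9, 0), (13, 0), (11, 1), (8, 0)], [(12, 3), (14, 0), (12, 1), (10, 0)], [(15, 0), (11, 0), (13, 1), (14, 0)], [(16, 0), (12, 0), (14, 1), (13, 0)], [(13, 0), (15, 2), (17, 0), (16, 0)], [(14, 0), (18, 0), (19, 0), (15, 0)], [(17, 1), (17, 2), (15, 0), (19, 0)], [(18, 3), (16, 0), (20, 0), (18, 2)], [(19, 1), (20, 0), (16, 0), (17, 0)], [(21, 0), (19, 0), (18, 0), (20, 2)], [(20, 0), (22, 0), (21, 3), (21, 2)],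 [(22, 1), (21, 0), (22, 3), (23, 0)], [(23, 1), (23, 2), (23, 3), (22, 0)]]⟩]

/-- The degrees. -/
def degrees : List ℕ := [2, 6, 8, 12]

/-- Multiples of the fundamental coweights in the coroots of the fundamental even roots. -/
def torus : List (List ℤ) := [
    [0, 0, 1, 0],
    [1, 0, 0, 0],
    [0, 1, 0, 0],
    [0, 0, 0, 1]]

/-- The multiplier. -/
def torusN : ℕ := 1

end Cfsg.Agent.ChevInv.TabF4w
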