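import Cfsg.Agent.EqLemmas
import Cfsg.Agent.Lib.ChevInv.Centralizer
import Cfsg.Agent.Lib.ChevLang.Lang
import Cfsg.Agent.Lib.ChevLang.Torsion

/-!
# The connected centraliser and descent to the finite field

`gam`: the group generated by the even root subgroups. `exists_descent`: a fixed element conjugate to the involution
over the algebraic closure is conjugate to it over the finite field.
-/

set_option autoImplicit false

namespace Cfsg.Agent.ChevInv

open Cfsg.Lie Cfsg.Lie.ChevalleyDatum Cfsg.Agent.Chev Cfsg.Agent.ChevBN Cfsg.Agent.ChevSt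
  Cfsg.Agent.ChevFixed Cfsg.Agent.ChevOrder

/-- Positive multiples of the fundamental coweights lie in the span of the coroots of the fundamental even roots. -/
def TorOK (C : InvCert) (D : ChevalleyDatum) (tor : List (List ℤ)) (N : ℕ) : Bool :=
  decide (0 < N ∧ ∀ i k : Fin D.rank, ∑ j : Fin D.rank, (tor.getD i.val []).getD j.val 0 *
    (D.coroot.getD (C.root j.val) #[]).getD k.val 0 = if k = i then (N : ℤ) else 0)

variable {C : InvCert} {D : ChevalleyDatum} {M : List (List ℤ)} {deg : List ℕ}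
  (hD : Good D) (hR : Roots D M 1) {K : Type*} [Field K]

variable (C K) in
/-- The group generated by the even root subgroups. -/
def gam : Subgroup (GL D.Idx K) :=
  Subgroup.closure {g | ∃ r : Fin D.nroots, C.par D r.val % 2 = 0 ∧ ∃ t, g = xg hD K r.val t}

theorem xg_mem_gam {r : ℕ} (hr : r < D.nroots) (he : C.par D r % 2 = 0) (t : K) : xg hD K r t ∈ gam C hD K :=
  Subgroup.subset_closure ⟨⟨r, hr⟩, he, t, rfl⟩

theorem ng_mem_gam {r : ℕ} (hr : r < D.nroots) (he : C.par D r % 2 = 0) (t : K) : ng hD K r t ∈ gam C hD K := by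
  have hn : C.par D (D.neg r) % 2 = 0 := by
    rw [(isLin_par hD).neg r hr]; omega
  simp only [ng]
  exact mul_mem (mul_mem (xg_mem_gam hD hr he _) (xg_mem_gam hD (hD.neg_lt r hr) hn _)) (xg_mem_gam hD hr he _)

theorem hg_mem_gam {r : ℕ} (hr : r < D.nroots) (he : C.par D r % 2 = 0) (t : K) : hg hD K r t ∈ gam C hD K := by
  simp only [hg]
  exact mul_mem (ng_mem_gam hD hr he _) (ng_mem_gam hD hr he _)

theorem gam_le_group : gam C hD K ≤ D.group K :=
  (Subgroup.closure_le _).2 (by rintro _ ⟨r, -, t, rfl⟩; exact xg_mem_group hD _ _)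

theorem gam_comm_invol {g : GL D.Idx K} (hg : g ∈ gam C hD K) : invol C D K * g = g * invol C D K := by
  have : gam C hD K ≤ Subgroup.centralizer {invol C D K} := (Subgroup.closure_le _).2 (by
    rintro _ ⟨r, he, u, rfl⟩
    exact Subgroup.mem_centralizer_singleton_iff.2 (invol_comm_xg hD r.isLt he u).symm)
  exact (Subgroup.mem_centralizer_singleton_iff.1 (this hg)).symm

include hD in
theorem hg_eq_torusHom {r : ℕ} (hr : r < D.nroots) {t : K} (ht : t ≠ 0) :
    hg hD K r t = torusHom D K fun k => Units.mk0 t ht ^ (D.coroot.getD r #[]).getD k.val 0 := by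
  apply Units.ext
  rw [coe_torusHom, coe_hg, hMat_eq_diag hD hr ht]
  congr 1
  ext1 s
  rw [ChevOrder.chi, Chev.pairing_eq_sum]
  simp only [← zpow_mul]
  rw [zpow_sum']

variable (hC : InvOK C D M deg)

section Torus

variable {tor : List (List ℤ)} {N : ℕ} (hT : TorOK C D tor N = true)
include hR hC hT

theorem diag_le_gam [IsAlgClosed K] {h : GL D.Idx K} (hh : h ∈ D.diagonalSubgroup K) : h ∈ gam C hD K := by
  obtain ⟨c, rfl⟩ := (torusHom_range (F := K) hD).ge hh
  obtain ⟨hN, hmat⟩ := of_decide_eq_true hT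
  have key : c ∈ (gam C hD K).comap (torusHom D K) := Subgroup.pi_mem_of_mulSingle_mem c fun i => by
    obtain ⟨s, hs⟩ := IsAlgClosed.exists_pow_nat_eq (c i : K) hN
    have hs0 : s ≠ 0 := fun e => (c i).ne_zero (by rw [← hs, e, zero_pow hN.ne'])
    have e : Pi.mulSingle i (c i) = ∏ j : Fin D.rank,
        (fun k : Fin D.rank => Units.mk0 s hs0 ^ (D.coroot.getD (C.root j.val) #[]).getD k.val 0) ^
          (tor.getD i.val []).getD j.val 0 := by
      funext k
      simp only [Finset.prod_apply, Pi.pow_apply, ← zpow_mul]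
      rw [← zpow_sum', Finset.sum_congr rfl fun j _ => mul_comm _ _, hmat i k]
      by_cases hk : k = i
      · subst hk
        rw [if_pos rfl, Pi.mulSingle_eq_same, zpow_natCast]
        exact Units.ext (by simpa using hs.symm)
      · rw [if_neg hk, Pi.mulSingle_eq_of_ne hk, zpow_zero]
    rw [e]
    refine prod_mem fun j _ => zpow_mem ?_ _
    have hr := of_decide_eq_true hC.root j
    show torusHom D K _ ∈ gam C hD K
    rw [← hg_eq_torusHom hD hr.1 hs0]
    exact hg_mem_gam hD hr.1 ((inS_iff hR hC hr.1).1 hr.2).2 _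
  exact key

/-- The representatives of the stabiliser. -/
theorem nw_mem_gam [IsAlgClosed K] (l : List (Fin D.rank)) (hl : pw hD l ∈ stab hD C) :
    (chevRGD hD hR K).nw l ∈ gam C hD K := by
  set R := chevRGD hD hR K
  have base : ∀ j, j < D.rank → R.nw (C.word D j) ∈ gam C hD K := by
    intro j hj
    obtain ⟨hr, hS⟩ := of_decide_eq_true hC.root ⟨j, hj⟩
    set r := C.root j
    have hx : R.nw (C.word D j) * ng hD K r (-1) ∈ D.diagonalSubgroup K := by
      refine ChevInvolOdd.mem_diag_of_perms hD hR (mul_mem (R.nw_mem_N _) ?_) ?_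
      · rw [← ng_inv]; exact inv_mem (ng_mem_monomial hD hR hr)
      · refine ((perms_nw hD hR (C.word D j)).mul hD
          (ChevInvolOdd.perms_ng hD hr (neg_ne_zero.2 one_ne_zero))).congr hD fun q hq => ?_
        have h1 := refl_lt hD hr hq
        show wlist D (C.word D j) (Chev.refl D r q) = q
        rw [wlist_word hD hR hC hj h1, (of_decide_eq_true hC.table ⟨j, hj⟩ ⟨_, h1⟩).1]
        exact refl_refl hD hr hq
    have := mul_mem (diag_le_gam hD hR hC hT hx) (inv_mem (ng_mem_gam (C := C) hD hr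
      ((inS_iff hR hC hr).1 hS).2 (-1 : K)))
    rwa [mul_inv_cancel_right] at this
  have key : ∀ w ∈ chainGrp hD C D.rank, ∀ l, pw hD l = w → R.nw l ∈ gam C hD K := by
    intro w hw
    have hdiag : ∀ l l', pw hD l = pw hD l' → R.nw l' ∈ gam C hD K → R.nw l ∈ gam C hD K := by
      intro l l' e h
      obtain ⟨k, hk, ek⟩ := exists_diag_of_pw_eq hD hR (F := K) e
      rw [show R.nw l = k * R.nw l' from ek]
      exact mul_mem (diag_le_gam hD hR hC hT hk) h
    induction hw using Subgroup.closure_induction_left with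
    | one => exact fun l e => hdiag l [] e (by rw [RGD.RootData.nw_nil]; exact one_mem _)
    | mul_left x hx y hy ih =>
      obtain ⟨j, -, hj, rfl⟩ := hx
      intro l e
      obtain ⟨l', hl'⟩ := (chainGrp_le_stab hD hR hC _ hy).1
      refine hdiag l (C.word D j ++ l') (by rw [e, pw_append, hl']; rfl) ?_
      rw [RGD.RootData.nw_append]
      exact mul_mem (base j hj) (ih l' hl')
    | inv_mul_cancel x hx y hy ih =>
      obtain ⟨j, -, hj, rfl⟩ := hx
      intro l e
      obtain ⟨l', hl'⟩ := (chainGrp_le_stab hD hR hC _ hy).1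
      refine hdiag l (C.word D j ++ l') (by rw [e, pw_append, hl', rho_inv hD hR hC hj]; rfl) ?_
      rw [RGD.RootData.nw_append]
      exact mul_mem (base j hj) (ih l' hl')
  exact key _ (by rw [← stab_eq_closure hD hR hC]; exact hl) l rfl

end Torus

omit hR in
include hD in
theorem mapG_invol {L : Type*} [Field L] (f : L →+* K) : mapG D f (invol C D L) = invol C D K := by
  rw [invol, mapG_torusHom hD, invol]
  congr 1
  funext i
  simp only [zc, map_zpow]
  congr 1
  exact Units.ext (by simp)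

include hR in
theorem mapG_nw {L : Type*} [Field L] (f : L →+* K) (l : List (Fin D.rank)) :
    mapG D f ((chevRGD hD hR L).nw l) = (chevRGD hD hR K).nw l := by
  show mapG D f ((l.map (chevRGD hD hR L).n).prod) = (l.map (chevRGD hD hR K).n).prod
  rw [map_list_prod, List.map_map]
  congr 1
  refine List.map_congr_left fun i _ => ?_
  show mapG D f (ng hD L (D.simple i.val) 1) = ng hD K (D.simple i.val) 1
  rw [mapG_ng hD, map_one]

include hR hC in
/-- The centraliser is generated by the even root subgroups. -/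
theorem centralizer_le_gam [IsAlgClosed K] {tor : List (List ℤ)} {N : ℕ} (hT : TorOK C D tor N = true)
    {F : Type*} [Field F] [Finite F] [Algebra F K] [Algebra.IsAlgebraic F K] (h2 : (2 : K) ≠ 0)
    {g : GL D.Idx K} (hg : g ∈ D.group K) (hc : g * invol C D K = invol C D K * g) : g ∈ gam C hD K := by
  obtain ⟨L, hL, gL, hgL, rfl⟩ := ChevLang.exists_defined (F := F) hD hg
  have : Finite L := Module.finite_of_finite F
  set f := algebraMap L K
  have h2L : (2 : L) ≠ 0 := fun e => h2 (by rw [← map_ofNat f 2, e, map_zero])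
  have hcL : gL * invol C D L = invol C D L * gL :=
    mapG_injective f (by rw [map_mul, map_mul, mapG_invol hD f]; exact hc)
  obtain ⟨v, hv, h, hh, l, hl, u, hu, rfl⟩ := exists_dec hD hR hC h2L hgL hcL
  have hgen : ∀ T : Finset ℕ, (∀ q ∈ T, q < D.nroots ∧ C.par D q % 2 = 0) →
      ∀ x ∈ (matSys D hD L).genBy (T : Set ℕ), mapG D f x ∈ gam C hD K := by
    intro T hT' x hx
    have : (matSys D hD L).genBy (T : Set ℕ) ≤ (gam C hD K).comap (mapG D f) := (Subgroup.closure_le _).2 (by
      rintro _ ⟨q, hq, t, rfl⟩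
      refine Subgroup.mem_comap.2 ?_
      show mapG D f (xg hD L q t) ∈ gam C hD K
      rw [mapG_xg hD]
      exact xg_mem_gam hD (hT' q hq).1 (hT' q hq).2 _)
    exact this hx
  rw [map_mul, map_mul, map_mul, mapG_nw hD hR f]
  refine mul_mem (mul_mem (mul_mem (hgen _ (fun q hq => ?_) v hv) (diag_le_gam hD hR hC hT (mapG_diag hD f hh)))
    (nw_mem_gam hD hR hC hT l hl)) (hgen _ (fun q hq => ?_) u hu)
  · exact ⟨((mem_tPos hR hC).1 hq).1, ((mem_tPos hR hC).1 hq).2.2⟩
  · obtain ⟨h', -, h'', -⟩ := (mem_tNeg hR hC).1 hq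
    exact ⟨h', h''⟩

include hD in
/-- The Lang–Steinberg theorem for the centraliser. -/
theorem gam_lang [IsAlgClosed K] {p f q : ℕ} [Fact p.Prime] [CharP K p] (hf : 1 ≤ f) (hqf : q = p ^ f)
    (σ : K →+* K) (hσ : ∀ z, σ z = z ^ q) {n : GL D.Idx K} (hn : n ∈ gam C hD K) :
    ∃ g ∈ gam C hD K, mapG D σ g = g * n := by
  let J := {r : Fin D.nroots // C.par D r.val % 2 = 0}
  let x : J → Matrix D.Idx D.Idx (Polynomial K) := fun r => ChevLang.rootPoly D K r.1
  have hgv : ∀ (r : J) (t : K), Lang.gval x r t = (xg hD K r.1.val t : Matrix D.Idx D.Idx K) := fun r t =>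
    ChevLang.gval_rootPoly hD r.1 t
  have hmem : ∀ r t, ∃ g ∈ gam C hD K, (g : Matrix D.Idx D.Idx K) = Lang.gval x r t :=
    fun r t => ⟨xg hD K r.1.val t, xg_mem_gam hD r.1.isLt r.2 t, (hgv r t).symm⟩
  have hone : ∀ r, Lang.gval x r 0 = 1 := fun r => by rw [hgv, xg_zero, Units.val_one]
  have hgen : ∀ g ∈ gam C hD K, ∃ L, (g : Matrix D.Idx D.Idx K) ∈ Lang.wset x L := by
    intro g hg
    suffices H : (∃ L, (g : Matrix D.Idx D.Idx K) ∈ Lang.wset x L) ∧
        (∃ L, ((g⁻¹ : GL D.Idx K) : Matrix D.Idx D.Idx K) ∈ Lang.wset x L) from H.1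
    induction hg using Subgroup.closure_induction with
    | mem z hz =>
      obtain ⟨r, he, t, rfl⟩ := hz
      refine ⟨⟨[⟨r, he⟩], t, 1, rfl, by rw [mul_one, hgv]⟩, ⟨[⟨r, he⟩], -t, 1, rfl, ?_⟩⟩
      rw [mul_one, hgv, xg_inv]
    | one => exact ⟨⟨[], rfl⟩, ⟨[], by rw [inv_one]; rfl⟩⟩
    | mul a b _ _ ha hb =>
      obtain ⟨⟨L, hL⟩, ⟨L', hL'⟩⟩ := ha
      obtain ⟨⟨M, hM⟩, ⟨M', hM'⟩⟩ := hb
      refine ⟨⟨L ++ M, by rw [Units.val_mul]; exact Lang.mul_mem_wset _ L M hL hM⟩, ⟨M' ++ L', ?_⟩⟩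
      rw [_root_.mul_inv_rev, Units.val_mul]
      exact Lang.mul_mem_wset _ M' L' hM' hL'
    | inv a _ ha => exact ⟨ha.2, by rw [inv_inv]; exact ha.1⟩
  have hle : (gam C hD K).map (mapG D σ) ≤ gam C hD K := by
    rw [gam, MonoidHom.map_closure]
    refine (Subgroup.closure_le _).2 ?_
    rintro _ ⟨_, ⟨r, he, t, rfl⟩, rfl⟩
    rw [mapG_xg hD]
    exact Subgroup.subset_closure ⟨r, he, _, rfl⟩
  obtain ⟨g, hg, e⟩ := Lang.lang x (gam C hD K) hmem hone hgen σ hf hqf hσ
    (fun g hg => ⟨mapG D σ g, hle ⟨g, hg, rfl⟩, rfl⟩) hn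
  exact ⟨g, hg, Units.ext (by rw [coe_mapG, Units.val_mul]; exact e)⟩

include hD hR hC in
/-- Conjugate to the involution over the algebraic closure implies conjugate to it over the finite field. -/
theorem exists_descent {tor : List (List ℤ)} {N : ℕ} (hT : TorOK C D tor N = true)
    {F : Type*} [Field F] [Fintype F] (h2 : (2 : F) ≠ 0) {x : GL D.Idx F}
    {g : GL D.Idx (AlgebraicClosure F)} (hg : g ∈ D.group (AlgebraicClosure F))
    (hgx : g * invol C D (AlgebraicClosure F) * g⁻¹ = mapG D (algebraMap F (AlgebraicClosure F)) x) :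
    ∃ g₀ ∈ D.group F, g₀ * invol C D F * g₀⁻¹ = x := by
  obtain ⟨p, hp⟩ := CharP.exists F
  haveI := hp
  haveI : Fact p.Prime := ⟨CharP.char_is_prime F p⟩
  obtain ⟨n, -, hn⟩ := FiniteField.card F p
  haveI : CharP (AlgebraicClosure F) p := charP_of_injective_algebraMap (algebraMap F (AlgebraicClosure F)).injective p
  set ι := algebraMap F (AlgebraicClosure F) with hι
  let σ : AlgebraicClosure F →+* AlgebraicClosure F := iterateFrobenius (AlgebraicClosure F) p n
  have hσ : ∀ z, σ z = z ^ Fintype.card F := fun z => by rw [hn]; exact iterateFrobenius_def p n z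
  have hσι : σ.comp ι = ι := RingHom.ext fun a => by
    rw [RingHom.comp_apply, hσ, ← map_pow, FiniteField.pow_card]
  have h2K : (2 : AlgebraicClosure F) ≠ 0 := fun e => h2 (ι.injective (by rw [map_ofNat, map_zero]; exact e))
  set z := invol C D (AlgebraicClosure F) with hz
  have hzfix : mapG D σ z = z := mapG_invol hD σ
  have hxfix : mapG D σ (mapG D ι x) = mapG D ι x := by rw [ChevLang.mapG_comp, hσι]
  have hσg : mapG D σ g ∈ D.group (AlgebraicClosure F) := mapG_group_le hD σ ⟨g, hg, rfl⟩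
  set m := g⁻¹ * mapG D σ g with hm
  have hmz : m * z = z * m := by
    have e : mapG D σ g * z * (mapG D σ g)⁻¹ = g * z * g⁻¹ := by
      conv_rhs => rw [hgx, ← hxfix, ← hgx]
      rw [map_mul, map_mul, map_inv, hzfix]
    calc m * z = g⁻¹ * (mapG D σ g * z * (mapG D σ g)⁻¹) * mapG D σ g := by rw [hm]; group
      _ = g⁻¹ * (g * z * g⁻¹) * mapG D σ g := by rw [e]
      _ = z * m := by rw [hm]; group
  have hmG : m ∈ gam C hD (AlgebraicClosure F) :=
    centralizer_le_gam hD hR hC hT (F := F) h2K (mul_mem (inv_mem hg) hσg) hmz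
  obtain ⟨h, hh, eh⟩ := gam_lang hD n.2 hn σ hσ hmG
  have hg' : g * h⁻¹ ∈ D.group (AlgebraicClosure F) := mul_mem hg (inv_mem (gam_le_group hD hh))
  have hfix : mapG D σ (g * h⁻¹) = g * h⁻¹ := by
    rw [map_mul, map_inv, eh, hm]; group
  obtain ⟨g₀, hg₀, e⟩ := ChevLang.mem_image_of_pow hD hR σ hσ hg' hfix (m := 0) (pow_zero _) (by simp)
  refine ⟨g₀, hg₀, mapG_injective ι ?_⟩
  rw [map_mul, map_mul, map_inv, mapG_invol hD ι, ← hgx, hι, e]
  have := gam_comm_invol hD hh
  calc g * h⁻¹ * z * (g * h⁻¹)⁻¹ = g * h⁻¹ * (z * h) * g⁻¹ := by group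
    _ = g * z * g⁻¹ := by rw [hz, this]; group

end Cfsg.Agent.ChevInv
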