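import Cfsg.Agent.EqLemmas
import Cfsg.Agent.Lib.ChevInv.Centralizer
import Cfsg.Agent.Lib.ChevBN.Weyl

/-!
# Monomial involutions over fields with square roots

`exists_diag_conj`: a monomial involution is conjugate to a toral one, by induction on the number of positive roots
made negative.
-/

set_option autoImplicit false

namespace Cfsg.Agent.ChevInv

open Cfsg.Lie Cfsg.Lie.ChevalleyDatum Cfsg.Agent.Chev Cfsg.Agent.ChevBN Cfsg.Agent.ChevSt
  Cfsg.Agent.Chev.RankOne

variable {D : ChevalleyDatum} {M : List (List ℤ)} {d : ℤ} (hD : Good D) (hR : Roots D M d)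
  {K : Type*} [Field K]

/-- The number of positive roots made negative. -/
noncomputable def negCount (D : ChevalleyDatum) (w : ℕ → ℕ) : ℕ := by
  classical
  exact ((Finset.range D.nroots).filter fun q => D.IsPosRoot q ∧ ¬ D.IsPosRoot (w q)).card

include hD hR in
/-- A monomial involution is conjugate to a toral one. -/
theorem exists_diag_conj [IsAlgClosed K] (h20 : (2 : K) ≠ 0) {n : GL D.Idx K} (hn : n ∈ (chevRGD hD hR K).N)
    (hn2 : n * n = 1) : ∃ g ∈ D.group K, g * n * g⁻¹ ∈ D.diagonalSubgroup K := by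
  classical
  set R := chevRGD hD hR K
  obtain ⟨l, hl⟩ := ChevInvolOdd.exists_perms hD hR hn
  induction hm : negCount D (wlist D l) using Nat.strong_induction_on generalizing n l with
  | _ m ih =>
  have hl' : ChevInvolOdd.Perms hD n (wlist D l) := hl
  have hinv : ∀ q < D.nroots, wlist D l (wlist D l q) = q := by
    intro q hq
    have h2 := hl'.mul hD hl'
    rw [hn2] at h2
    exact h2.unique hD (ChevInvolOdd.perms_diag hD (one_mem _)) hq
  have hneg : ∀ q < D.nroots, wlist D l (D.neg q) = D.neg (wlist D l q) := by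
    intro q hq
    refine hR.root_ext (wlist_lt hD l (hD.neg_lt q hq)) (hD.neg_lt _ (wlist_lt hD l hq)) fun k _ => ?_
    obtain ⟨g, hg, eg⟩ := exists_lin_comp hD hR (isLin_co hD M k) l
    rw [← eg _ (hD.neg_lt q hq), hg.neg q hq, eg q hq, (isLin_co hD M k).neg _ (wlist_lt hD l hq)]
  by_cases h : ∀ i < D.rank, D.IsPosRoot (wlist D l (D.simple i))
  · refine ⟨1, one_mem _, ?_⟩
    rw [one_mul, inv_one, mul_one]
    obtain ⟨h', hh', l', rfl⟩ := R.mem_N_iff.1 hn
    have hperm : ∀ q < D.nroots, wlist D l' q = wlist D l q := fun q hq =>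
      ((ChevInvolOdd.perms_diag hD hh').mul hD (perms_nw hD hR (F := K) l')).unique hD hl' hq
    refine mul_mem hh' (R.mem_H_of_pos fun r hr => ?_)
    show D.IsPosRoot (R.ww l' r).val
    rw [ww_eq_pw hD hR, pw_apply, hperm _ r.isLt]
    obtain ⟨o, ho⟩ := hD.order
    obtain ⟨g, hg, eg⟩ := exists_lin_comp hD hR (f := o) ⟨ho.add, ho.neg⟩ l
    rw [ho.pos_iff _ (wlist_lt hD l r.isLt), ← eg _ r.isLt]
    exact lin_pos hD hR hg (fun i hi => by
      rw [eg _ (hD.simple_lt i hi), ← ho.pos_iff _ (wlist_lt hD l (hD.simple_lt i hi))]; exact h i hi) r.isLt hr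
  push Not at h
  obtain ⟨i, hi, hwi⟩ := h
  set α := D.simple i with hα
  have hαlt := hD.simple_lt i hi
  have hαpos : D.IsPosRoot α := hR.pos_simple hD hi
  have hs_pos : ∀ q < D.nroots, q ≠ α → D.IsPosRoot q → D.IsPosRoot (wN D i q) := fun q hq hne hp =>
    hR.pos_refl hD hi hq hp hne
  have hs_α : wN D i α = D.neg α := by simp [wN, hα, Chev.refl]
  have hs_nα : wN D i (D.neg α) = α := by rw [hR.refl_neg hD hi hαlt, hs_α, hD.neg_neg α hαlt]
  have hs_ne : ∀ q < D.nroots, q ≠ D.neg α → ¬ D.IsPosRoot q → ¬ D.IsPosRoot (wN D i q) := by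
    intro q hq hne hp
    have hp' := (pos_or_neg hD hq).2 hp
    have hne' : D.neg q ≠ α := fun e => hne (by rw [← e, hD.neg_neg q hq])
    have := hs_pos _ (hD.neg_lt q hq) hne' hp'
    rw [hR.refl_neg hD hi hq] at this
    exact (pos_or_neg hD (refl_lt hD hαlt hq)).1 this
  have hs_s : ∀ q < D.nroots, wN D i (wN D i q) = q := fun q hq => refl_refl hD hαlt hq
  by_cases hc : wlist D l α = D.neg α
  · -- split off the root
    obtain ⟨hlt, c, hc0, hcu⟩ := hl' α hαlt
    rw [hc] at hcu
    obtain ⟨μ, hμ⟩ := IsAlgClosed.exists_eq_mul_self c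
    obtain ⟨g, hg, s, hs0, e⟩ := ChevInvolOdd.conj_split hD hαlt h20 hn2 (ε := Units.mk0 c hc0) hcu hμ.symm
    set n' := g * n * g⁻¹ with hn'
    have hngN : ng hD K α s ∈ R.N := by
      rw [ng_eq_hg_mul hD α s]
      exact mul_mem (R.H_le_N (Subgroup.subset_closure ⟨α, s, hαlt, hs0, coe_hg hD α s⟩))
        (ng_mem_monomial hD hR hαlt)
    have hn'N : n' ∈ R.N := e ▸ mul_mem hngN hn
    have hn'2 : n' * n' = 1 := by
      rw [hn', show g * n * g⁻¹ * (g * n * g⁻¹) = g * (n * n) * g⁻¹ by group, hn2]; group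
    have hperm : ChevInvolOdd.Perms hD n' (wlist D (⟨i, hi⟩ :: l)) :=
      e ▸ ((ChevInvolOdd.perms_ng hD hαlt hs0).mul hD hl')
    have hlt' : negCount D (wlist D (⟨i, hi⟩ :: l)) < m := by
      rw [← hm, negCount, negCount]
      refine Finset.card_lt_card ⟨fun q hq => ?_, fun hsub => ?_⟩
      · simp only [Finset.mem_filter, Finset.mem_range] at hq ⊢
        obtain ⟨hq1, hq2, hq3⟩ := hq
        refine ⟨hq1, hq2, fun hp => hq3 ?_⟩
        show D.IsPosRoot (wN D i (wlist D l q))
        refine hs_pos _ (wlist_lt hD l hq1) (fun e' => ?_) hp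
        have : q = D.neg α := by rw [← hinv q hq1, e', hc]
        rw [this, pos_or_neg hD hαlt] at hq2
        exact hq2 hαpos
      · have h1 : α ∈ (Finset.range D.nroots).filter fun q => D.IsPosRoot q ∧ ¬ D.IsPosRoot (wlist D l q) :=
          Finset.mem_filter.2 ⟨Finset.mem_range.2 hαlt, hαpos, hwi⟩
        have h2 := (Finset.mem_filter.1 (hsub h1)).2.2
        exact h2 (show D.IsPosRoot (wN D i (wlist D l α)) by rw [hc, hs_nα]; exact hαpos)
    obtain ⟨g', hg', hd'⟩ := ih _ hlt' hn'2 hn'N (⟨i, hi⟩ :: l) hperm rfl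
    exact ⟨g' * g, mul_mem hg' hg, by rw [hn'] at hd'; simpa [mul_assoc] using hd'⟩
  · -- conjugate by the fundamental reflection
    set g := ng hD K α 1 with hg
    set n' := g * n * g⁻¹ with hn'
    have hgN : g ∈ R.N := ng_mem_monomial hD hR hαlt
    have hgG : g ∈ D.group K := by rw [← chev_G hD hR]; exact R.N_le_G hgN
    have hn'2 : n' * n' = 1 := by
      rw [hn', show g * n * g⁻¹ * (g * n * g⁻¹) = g * (n * n) * g⁻¹ by group, hn2]; group
    have hn'N : n' ∈ R.N := mul_mem (mul_mem hgN hn) (inv_mem hgN)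
    have hperm : ChevInvolOdd.Perms hD n' (wlist D (⟨i, hi⟩ :: l ++ [⟨i, hi⟩])) := by
      have p1 : ChevInvolOdd.Perms hD g⁻¹ (wN D i) := by
        rw [hg, ng_inv]; exact ChevInvolOdd.perms_ng hD hαlt (neg_ne_zero.2 one_ne_zero)
      refine (((ChevInvolOdd.perms_ng hD hαlt one_ne_zero).mul hD hl').mul hD p1).congr hD fun q _ => ?_
      show wN D i (wlist D l (wN D i q)) = wlist D (⟨i, hi⟩ :: l ++ [⟨i, hi⟩]) q
      rw [wlist_append]
      rfl
    have hlt' : negCount D (wlist D (⟨i, hi⟩ :: l ++ [⟨i, hi⟩])) < m := by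
      rw [← hm, negCount, negCount]
      refine lt_of_le_of_lt (Finset.card_le_card_of_injOn (wN D i)
        (t := ((Finset.range D.nroots).filter fun q => D.IsPosRoot q ∧ ¬ D.IsPosRoot (wlist D l q)).erase α) ?_ ?_)
        (Finset.card_erase_lt_of_mem (Finset.mem_filter.2 ⟨Finset.mem_range.2 hαlt, hαpos, hwi⟩))
      · intro q hq
        simp only [Finset.coe_filter, Finset.mem_range, Set.mem_setOf_eq] at hq
        obtain ⟨hq1, hq2, hq3⟩ := hq
        replace hq3 : ¬ D.IsPosRoot (wN D i (wlist D l (wN D i q))) := by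
          rw [wlist_append] at hq3; exact hq3
        have hsq := refl_lt hD hαlt hq1
        have hqα : q ≠ α := by
          rintro rfl
          rw [hs_α, hneg α hαlt] at hq3
          have hp : D.IsPosRoot (D.neg (wlist D l α)) := (pos_or_neg hD (wlist_lt hD l hαlt)).2 hwi
          refine hq3 (hs_pos _ (hD.neg_lt _ (wlist_lt hD l hαlt)) (fun e' => hc ?_) hp)
          have e'' := congrArg D.neg e'
          rwa [hD.neg_neg _ (wlist_lt hD l hαlt)] at e''
        have hp := hs_pos q hq1 hqα hq2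
        have hne : wN D i q ≠ α := fun e' => by
          have := hs_s q hq1
          rw [e', hs_α] at this
          rw [← this, pos_or_neg hD hαlt] at hq2
          exact hq2 hαpos
        simp only [Finset.coe_erase, Set.mem_sdiff, Set.mem_singleton_iff, Finset.coe_filter,
          Finset.mem_range, Set.mem_setOf_eq]
        refine ⟨⟨hsq, hp, fun hw => hq3 (hs_pos _ (wlist_lt hD l hsq) (fun e' => ?_) hw)⟩, hne⟩
        have : wN D i q = wlist D l α := by rw [← e', hinv (wN D i q) hsq]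
        exact hwi (this ▸ hp)
      · intro a ha b hb e'
        simp only [Finset.coe_filter, Finset.mem_range, Set.mem_setOf_eq] at ha hb
        rw [← hs_s a ha.1, e', hs_s b hb.1]
    obtain ⟨g', hg', hd'⟩ := ih _ hlt' hn'2 hn'N _ hperm rfl
    exact ⟨g' * g, mul_mem hg' hgG, by rw [hn'] at hd'; simpa [mul_assoc] using hd'⟩

end Cfsg.Agent.ChevInv
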