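import Cfsg.Agent.EqLemmas
import Cfsg.Agent.Lib.ChevInv.Descent
import Cfsg.Agent.Lib.ChevInv.Diagonal

/-!
# The classes of involutions in odd characteristic

`exists_two_classes`: with certificates for two involutions of the torus and for the two orbits of the Weyl group,
there are exactly two classes of involutions, with the centraliser orders of the certificates.
-/

set_option autoImplicit false

namespace Cfsg.Agent.ChevInv

open Cfsg.Lie Cfsg.Lie.ChevalleyDatum Cfsg.Agent.Chev Cfsg.Agent.ChevBN Cfsg.Agent.ChevSt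
  Cfsg.Agent.ChevFixed Cfsg.Agent.ChevOrder

/-- A certificate carrying only the parities of a bit vector. -/
def vcert (l v : ℕ) : InvCert where
  bits := (List.range l).map fun a => if v.testBit a then 1 else 0
  CO := []
  posMask := 0
  evenMask := 0
  pi := []
  words := []
  T := []
  dec := []
  gs := []
  levels := []

/-- The steps are reflections and lead every vector to one of the roots. -/
def stepsOK (D : ChevalleyDatum) : List ℕ → List (ℕ × ℕ × ℕ) → Bool
  | known, [] => (List.range (2 ^ D.rank)).all fun v => v == 0 || known.contains v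
  | known, (v, i, m) :: L =>
    decide (i < D.rank) && known.contains m &&
      decide (∀ j : Fin D.rank, (vcert D.rank m).par D (wN D i (D.simple j.val)) % 2 =
        (vcert D.rank v).par D (D.simple j.val) % 2) && stepsOK D (v :: known) L

variable {D : ChevalleyDatum} {M : List (List ℤ)} (hD : Good D) (hR : Roots D M 1)

include hD hR in
/-- A linear function even at the fundamental roots is even at all roots. -/
theorem even_of_lin {f : ℕ → ℤ} (hf : IsLin D f) (h : ∀ i < D.rank, f (D.simple i) % 2 = 0) {q : ℕ}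
    (hq : q < D.nroots) : f q % 2 = 0 := by
  have hpos : ∀ p, p < D.nroots → D.IsPosRoot p → f p % 2 = 0 := fun p hp hpp =>
    hR.pos_induction hD (P := fun p => f p % 2 = 0) h (fun i hi p hp hP => by
      show f (Chev.refl D (D.simple i) p) % 2 = 0
      rw [hf.refl hD (hD.simple_lt i hi) hp, Int.sub_emod, hP, Int.mul_emod, h i hi]
      simp) hp hpp
  by_cases hp : D.IsPosRoot q
  · exact hpos q hq hp
  · have := hpos _ (hD.neg_lt q hq) ((pos_or_neg hD hq).2 hp)
    rw [hf.neg q hq] at this
    omega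

include hD hR in
/-- A fundamental reflection moves an involution of the torus as a step says. -/
theorem step_conj {K : Type*} [Field K] {A B : InvCert} (i : Fin D.rank)
    (h : ∀ j : Fin D.rank, B.par D (wN D i.val (D.simple j.val)) % 2 = A.par D (D.simple j.val) % 2) :
    ∃ g ∈ D.group K, g * invol A D K * g⁻¹ = invol B D K := by
  obtain ⟨c, hc, hchi⟩ := nw_conj_invol hD hR (C := A) (F := K) [i]
  refine ⟨(chevRGD hD hR K).nw [i],
    chev_G hD hR (F := K) ▸ (chevRGD hD hR K).N_le_G ((chevRGD hD hR K).nw_mem_N _), ?_⟩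
  rw [hc]
  obtain ⟨g, hg, eg⟩ := exists_lin_comp hD hR (isLin_par (C := B) hD) [i]
  have hev : ∀ r < D.nroots, B.par D (wlist D [i] r) % 2 = A.par D r % 2 := by
    intro r hr
    have h' := even_of_lin hD hR (hg.addFun ((isLin_par (C := A) hD).smul (-1))) (fun j hj => by
      show (g (D.simple j) + -1 * A.par D (D.simple j)) % 2 = 0
      rw [eg _ (hD.simple_lt j hj)]
      have : B.par D (wlist D [i] (D.simple j)) % 2 = A.par D (D.simple j) % 2 := h ⟨j, hj⟩
      omega) hr
    rw [← eg r hr]
    omega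
  apply Units.ext
  rw [invol, coe_torusHom, coe_torusHom, dg, dg]
  congr 1
  ext a
  rcases a with k | q
  · rfl
  · show ((ChevOrder.chi c q.val : Kˣ) : K) = (ChevOrder.chi (zc B D K) q.val : Kˣ)
    obtain ⟨r, rfl⟩ := (pw hD [i]).surjective q
    have e := hev r.val r.isLt
    rw [hchi r, chi_zc, chi_zc, pw_apply]
    by_cases hr : A.par D r.val % 2 = 0
    · rw [(Int.even_iff.2 hr).neg_one_zpow, (Int.even_iff.2 (e.trans hr)).neg_one_zpow]
    · rw [(Int.odd_iff.2 (by omega : A.par D r.val % 2 = 1)).neg_one_zpow,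
        (Int.odd_iff.2 (by omega : B.par D (wlist D [i] r.val) % 2 = 1)).neg_one_zpow]

theorem invol_congr {K : Type*} [Field K] {A B : InvCert}
    (h : ∀ j : Fin D.rank, A.bits.getD j.val 0 = B.bits.getD j.val 0) : invol A D K = invol B D K := by
  rw [invol, invol]
  congr 1
  funext j
  rw [zc, zc, h j]

include hD hR in
/-- Every nonzero vector is conjugate to a root. -/
theorem exists_root {K : Type*} [Field K] (roots : List ℕ) (L : List (ℕ × ℕ × ℕ)) (h : stepsOK D roots L = true)
    {v : ℕ} (hv : v < 2 ^ D.rank) (hv0 : v ≠ 0) :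
    ∃ m ∈ roots, ∃ g ∈ D.group K, g * invol (vcert D.rank v) D K * g⁻¹ = invol (vcert D.rank m) D K := by
  suffices key : ∀ (L : List (ℕ × ℕ × ℕ)) (known : List ℕ), stepsOK D known L = true →
      (∀ x ∈ known, ∃ m ∈ roots, ∃ g ∈ D.group K,
        g * invol (vcert D.rank x) D K * g⁻¹ = invol (vcert D.rank m) D K) →
      ∃ m ∈ roots, ∃ g ∈ D.group K, g * invol (vcert D.rank v) D K * g⁻¹ = invol (vcert D.rank m) D K from
    key L roots h fun x hx => ⟨x, hx, 1, one_mem _, by group⟩
  intro L
  induction L with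
  | nil =>
    intro known h hk
    simp only [stepsOK, List.all_eq_true, List.mem_range, Bool.or_eq_true, beq_iff_eq,
      List.contains_iff_mem] at h
    exact hk v ((h v hv).resolve_left hv0)
  | cons x L ih =>
    obtain ⟨w, i, m⟩ := x
    intro known h hk
    simp only [stepsOK, Bool.and_eq_true, decide_eq_true_eq, List.contains_iff_mem] at h
    obtain ⟨⟨⟨hi, hm⟩, hs⟩, hrest⟩ := h
    refine ih _ hrest fun y hy => ?_
    rcases List.mem_cons.1 hy with rfl | hy
    · obtain ⟨g, hg, eg⟩ := step_conj hD hR (K := K) (A := vcert D.rank y) (B := vcert D.rank m) ⟨i, hi⟩ hs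
      obtain ⟨r, hr, g', hg', eg'⟩ := hk m hm
      refine ⟨r, hr, g' * g, mul_mem hg' hg, ?_⟩
      rw [← eg', ← eg]; group
    · exact hk y hy

include hD hR in
/-- A toral involution is the involution of a vector. -/
theorem exists_vcert {K : Type*} [Field K] {t : GL D.Idx K} (ht : t ∈ D.diagonalSubgroup K) (ht2 : t * t = 1) :
    ∃ v < 2 ^ D.rank, t = invol (vcert D.rank v) D K := by
  classical
  obtain ⟨c, rfl⟩ := (torusHom_range (F := K) hD).ge ht
  refine ⟨Nat.ofBits fun j : Fin D.rank => decide (c j ≠ 1), Nat.ofBits_lt_two_pow _, ?_⟩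
  rw [invol]
  congr 1
  funext j
  have e := ChevLang.exists_chi_one hD hR (c := c * c) (by rw [map_mul]; exact ht2) j
  rw [zpow_one, Pi.mul_apply] at e
  have hb : (vcert D.rank (Nat.ofBits fun j : Fin D.rank => decide (c j ≠ 1))).bits.getD j.val 0 =
      if c j ≠ 1 then 1 else 0 := by
    simp [vcert, Nat.testBit_ofBits]
  rw [zc, hb]
  by_cases hj : c j = 1
  · rw [if_neg (not_not.2 hj), zpow_zero, hj]
  · rw [if_pos hj, zpow_one]
    have e' : (c j : K) * c j = 1 := by rw [← Units.val_mul, e, Units.val_one]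
    rcases mul_self_eq_one_iff.1 e' with h | h
    · exact absurd (Units.ext h) hj
    · exact Units.ext (by rw [h]; rfl)

/-- Powers of `q` distinguish the centraliser orders. -/
theorem pow_mul_ne {q : ℤ} (hq : 1 < q) {N N' : ℕ} (hN : N < N') (deg deg' : List ℕ) (hpos : ∀ d ∈ deg, 0 < d) :
    q ^ N * (deg.map fun d => q ^ d - 1).prod ≠ q ^ N' * (deg'.map fun d => q ^ d - 1).prod := by
  intro e
  obtain ⟨k, rfl⟩ : ∃ k, N' = N + (k + 1) := ⟨N' - N - 1, by omega⟩
  rw [pow_add, mul_assoc] at e
  have hd : q ∣ (deg.map fun d => q ^ d - 1).prod := by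
    rw [mul_left_cancel₀ (pow_ne_zero N (by omega)) e]
    exact dvd_mul_of_dvd_left (dvd_pow_self q (Nat.succ_ne_zero k)) _
  have hcop : IsCoprime q (deg.map fun d => q ^ d - 1).prod := by
    clear e hd
    induction deg with
    | nil => exact isCoprime_one_right
    | cons d l ih =>
      rw [List.map_cons, List.prod_cons]
      refine IsCoprime.mul_right ?_ (ih fun x hx => hpos x (List.mem_cons_of_mem _ hx))
      obtain ⟨j, hj⟩ := Nat.exists_eq_succ_of_ne_zero (hpos d List.mem_cons_self).ne'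
      exact ⟨q ^ j, -1, by rw [hj, pow_succ]; ring⟩
  have := Int.isUnit_iff.1 (hcop.isUnit_of_dvd' dvd_rfl hd)
  omega

variable {C₁ C₂ : InvCert} {deg₁ deg₂ : List ℕ}

include hD hR in
/-- The order of the centraliser as a natural number. -/
theorem card_centralizer_group {F : Type*} [Field F] [Fintype F] (h2 : (2 : F) ≠ 0) {C : InvCert} {deg : List ℕ}
    (hC : InvOK C D M deg) (hpos : ∀ d ∈ deg, 0 < d) {s : D.group F} (hs : (s : GL D.Idx F) = invol C D F) :
    Nat.card (Subgroup.centralizer ({s} : Set (D.group F))) =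
      Fintype.card F ^ (C.sp D).card * (deg.map fun d => Fintype.card F ^ d - 1).prod := by
  have e : Nat.card (Subgroup.centralizer ({s} : Set (D.group F))) =
      Nat.card {g : GL D.Idx F // g ∈ D.group F ∧ g * invol C D F = invol C D F * g} := by
    refine Nat.card_congr
      { toFun := fun g => ⟨g.1.1, g.1.2, by
          have := congrArg Subtype.val (Subgroup.mem_centralizer_singleton_iff.1 g.2)
          rw [Subgroup.coe_mul, Subgroup.coe_mul, hs] at this
          exact this⟩
        invFun := fun g => ⟨⟨g.1, g.2.1⟩, Subgroup.mem_centralizer_singleton_iff.2 (Subtype.ext (by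
          rw [Subgroup.coe_mul, Subgroup.coe_mul, hs]
          exact g.2.2))⟩
        left_inv := fun g => rfl
        right_inv := fun g => rfl }
  have h := card_centralizer hD hR hC h2
  rw [← e, Nat.card_eq_fintype_card (α := F)] at h
  apply @Nat.cast_injective ℤ
  rw [h, Nat.cast_mul, Nat.cast_pow, Nat.cast_list_prod, List.map_map]
  congr 2
  refine List.map_congr_left fun d hd => ?_
  show _ = ((Fintype.card F ^ d - 1 : ℕ) : ℤ)
  rw [Nat.cast_sub (Nat.one_le_pow _ _ Fintype.card_pos), Nat.cast_pow, Nat.cast_one]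

include hD hR in
/-- Exactly two classes of involutions. -/
theorem exists_two_classes (hC₁ : InvOK C₁ D M deg₁) (hC₂ : InvOK C₂ D M deg₂)
    {tor₁ tor₂ : List (List ℤ)} {N₁ N₂ : ℕ} (hT₁ : TorOK C₁ D tor₁ N₁ = true) (hT₂ : TorOK C₂ D tor₂ N₂ = true)
    {v₁ v₂ : ℕ} (hb₁ : ∀ j : Fin D.rank, (vcert D.rank v₁).bits.getD j.val 0 = C₁.bits.getD j.val 0)
    (hb₂ : ∀ j : Fin D.rank, (vcert D.rank v₂).bits.getD j.val 0 = C₂.bits.getD j.val 0)
    {steps : List (ℕ × ℕ × ℕ)} (hsteps : stepsOK D [v₁, v₂] steps = true)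
    (hodd₁ : ∃ r : Fin D.nroots, C₁.par D r.val % 2 ≠ 0) (hodd₂ : ∃ r : Fin D.nroots, C₂.par D r.val % 2 ≠ 0)
    (hpos₁ : ∀ d ∈ deg₁, 0 < d) (hpos₂ : ∀ d ∈ deg₂, 0 < d) (hne : (C₁.sp D).card ≠ (C₂.sp D).card)
    {F : Type*} [Field F] [Fintype F] (hF : Odd (Fintype.card F)) :
    ∃ s t : D.group F, orderOf s = 2 ∧ orderOf t = 2 ∧ ¬ IsConj s t ∧
      (∀ u : D.group F, orderOf u = 2 → IsConj u s ∨ IsConj u t) ∧
      Nat.card (Subgroup.centralizer ({s} : Set (D.group F))) =
        Fintype.card F ^ (C₁.sp D).card * (deg₁.map fun d => Fintype.card F ^ d - 1).prod ∧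
      Nat.card (Subgroup.centralizer ({t} : Set (D.group F))) =
        Fintype.card F ^ (C₂.sp D).card * (deg₂.map fun d => Fintype.card F ^ d - 1).prod := by
  classical
  have hch : ringChar F ≠ 2 := fun e => by
    have := FiniteField.even_card_of_char_two e
    have := Nat.odd_iff.1 hF
    omega
  have h2 : (2 : F) ≠ 0 := Ring.two_ne_zero hch
  have hmem : ∀ C : InvCert, invol C D F ∈ D.group F := fun C =>
    borel_le_group hD hR (Subgroup.mem_sup_right ((torusHom_range (F := F) hD).le ⟨_, rfl⟩))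
  have hord : ∀ C : InvCert, (∃ r : Fin D.nroots, C.par D r.val % 2 ≠ 0) →
      orderOf (⟨invol C D F, hmem C⟩ : D.group F) = 2 := by
    rintro C ⟨r, hr⟩
    haveI : Fact (Nat.Prime 2) := ⟨Nat.prime_two⟩
    refine orderOf_eq_prime (Subtype.ext (by rw [Subgroup.coe_pow, pow_two]; exact invol_sq)) fun e => ?_
    have e' : invol C D F = 1 := congrArg Subtype.val e
    have hc := invol_conj hD (C := C) (F := F) r.isLt 1
    rw [e', one_mul, inv_one, mul_one, chi_zc_of_odd hr] at hc
    have h3 := ChevInvolOdd.xg_param_inj hD r.isLt hc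
    rw [Units.val_neg, Units.val_one] at h3
    exact h2 (by linear_combination h3)
  refine ⟨⟨invol C₁ D F, hmem C₁⟩, ⟨invol C₂ D F, hmem C₂⟩, hord C₁ hodd₁, hord C₂ hodd₂, ?_, fun u hu => ?_,
    card_centralizer_group hD hR h2 hC₁ hpos₁ rfl, card_centralizer_group hD hR h2 hC₂ hpos₂ rfl⟩
  · intro hconj
    obtain ⟨c, hc⟩ := isConj_iff.1 hconj
    have e : Nat.card (Subgroup.centralizer ({⟨invol C₁ D F, hmem C₁⟩} : Set (D.group F))) =
        Nat.card (Subgroup.centralizer ({⟨invol C₂ D F, hmem C₂⟩} : Set (D.group F))) :=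
      Nat.card_congr ((MulAut.conj c).toEquiv.subtypeEquiv fun a => by
        rw [Subgroup.mem_centralizer_singleton_iff, Subgroup.mem_centralizer_singleton_iff, ← hc]
        show a * _ = _ * a ↔ c * a * c⁻¹ * _ = _ * (c * a * c⁻¹)
        constructor
        · intro h
          calc _ = c * (a * ⟨invol C₁ D F, hmem C₁⟩) * c⁻¹ := by group
            _ = _ := by rw [h]; group
        · intro h
          calc _ = c⁻¹ * (c * a * c⁻¹ * (c * ⟨invol C₁ D F, hmem C₁⟩ * c⁻¹)) * c := by group
            _ = _ := by rw [h]; group)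
    rw [card_centralizer_group hD hR h2 hC₁ hpos₁ rfl, card_centralizer_group hD hR h2 hC₂ hpos₂ rfl] at e
    have e' := congrArg (fun n : ℕ => (n : ℤ)) e
    have hcast : ∀ deg : List ℕ, (((deg.map fun d => Fintype.card F ^ d - 1).prod : ℕ) : ℤ) =
        (deg.map fun d => (Fintype.card F : ℤ) ^ d - 1).prod := fun deg => by
      rw [Nat.cast_list_prod, List.map_map]
      refine congrArg List.prod (List.map_congr_left fun d _ => ?_)
      show ((Fintype.card F ^ d - 1 : ℕ) : ℤ) = _
      rw [Nat.cast_sub (Nat.one_le_pow _ _ Fintype.card_pos), Nat.cast_pow, Nat.cast_one]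
    simp only [Nat.cast_mul, Nat.cast_pow, hcast] at e'
    have hq : (1 : ℤ) < Fintype.card F := by exact_mod_cast Fintype.one_lt_card
    rcases Nat.lt_or_gt_of_ne hne with h | h
    · exact pow_mul_ne hq h _ _ hpos₁ e'
    · exact pow_mul_ne hq h _ _ hpos₂ e'.symm
  · have hu2 : (u : GL D.Idx F) * u = 1 := by
      have := pow_orderOf_eq_one u
      rw [hu, pow_two] at this
      exact congrArg Subtype.val this
    obtain ⟨g, hg, hnN, hn2⟩ := ChevInvolOdd.exists_monomial_conj hD hR hch u.2 hu2
    set n := g * (u : GL D.Idx F) * g⁻¹ with hn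
    have hn1 : n ≠ 1 := by
      rw [hn]
      intro e
      have : u = 1 := Subtype.ext (conj_eq_one_iff.1 e)
      rw [this, orderOf_one] at hu
      omega
    set ι := algebraMap F (AlgebraicClosure F) with hι
    have h2K : (2 : AlgebraicClosure F) ≠ 0 := fun e => h2 (ι.injective (by rw [map_ofNat, map_zero]; exact e))
    have hιN : mapG D ι n ∈ (chevRGD hD hR (AlgebraicClosure F)).N := by
      obtain ⟨h, hh, l, e⟩ := (chevRGD hD hR F).mem_N_iff.1 hnN
      rw [e, map_mul, mapG_nw hD hR ι]
      exact mul_mem ((chevRGD hD hR (AlgebraicClosure F)).H_le_N (mapG_diag hD ι hh))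
        ((chevRGD hD hR (AlgebraicClosure F)).nw_mem_N l)
    obtain ⟨a, ha, hdiag⟩ := exists_diag_conj hD hR h2K hιN (by rw [← map_mul, hn2, map_one])
    obtain ⟨v, hv, ev⟩ := exists_vcert hD hR hdiag (by
      rw [show a * mapG D ι n * a⁻¹ * (a * mapG D ι n * a⁻¹) = a * (mapG D ι n * mapG D ι n) * a⁻¹ by group,
        ← map_mul, hn2, map_one]; group)
    have hv0 : v ≠ 0 := by
      intro hv0
      subst hv0
      have : invol (vcert D.rank 0) D (AlgebraicClosure F) = 1 := by
        rw [invol, show zc (vcert D.rank 0) D (AlgebraicClosure F) = 1 from funext fun j => by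
          simp [zc, vcert], map_one]
      rw [this, conj_eq_one_iff] at ev
      exact hn1 (mapG_injective ι (ev.trans (map_one _).symm))
    obtain ⟨m, hm, b, hb, eb⟩ := exists_root hD hR (K := AlgebraicClosure F) _ _ hsteps hv hv0
    have key : ∀ (C : InvCert) (deg : List ℕ), InvOK C D M deg → ∀ (tor : List (List ℤ)) (N : ℕ),
        TorOK C D tor N = true → invol (vcert D.rank m) D (AlgebraicClosure F) = invol C D (AlgebraicClosure F) →
        IsConj u ⟨invol C D F, hmem C⟩ := by
      intro C deg hC tor N hT e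
      have hk : (a⁻¹ * b⁻¹) * invol C D (AlgebraicClosure F) * (a⁻¹ * b⁻¹)⁻¹ = mapG D ι n := by
        rw [← e, ← eb, ← ev]; group
      obtain ⟨g₀, hg₀, e₀⟩ := exists_descent hD hR hC hT h2 (mul_mem (inv_mem ha) (inv_mem hb)) hk
      refine IsConj.symm (isConj_iff.2 ⟨⟨g⁻¹ * g₀, mul_mem (inv_mem hg) hg₀⟩, Subtype.ext ?_⟩)
      show g⁻¹ * g₀ * invol C D F * (g⁻¹ * g₀)⁻¹ = (u : GL D.Idx F)
      rw [show g⁻¹ * g₀ * invol C D F * (g⁻¹ * g₀)⁻¹ = g⁻¹ * (g₀ * invol C D F * g₀⁻¹) * g by group, e₀, hn]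
      group
    simp only [List.mem_cons, List.not_mem_nil, or_false] at hm
    rcases hm with rfl | rfl
    · exact Or.inl (key C₁ deg₁ hC₁ _ _ hT₁ (invol_congr hb₁))
    · exact Or.inr (key C₂ deg₂ hC₂ _ _ hT₂ (invol_congr hb₂))

end Cfsg.Agent.ChevInv
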