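import Cfsg.Agent.EqLemmas

/-!
# The two orbits of the Weyl group of E8 on the involutions of the torus
-/

set_option autoImplicit false

namespace Cfsg.Agent.ChevInv.OrbitE8

/-- The vectors of the representatives. -/
def roots : List ℕ := [6, 1]

/-- Steps `(v, i, v')`: the fundamental reflection `i` moves `v` to an earlier vector. -/
def steps : List (ℕ × ℕ × ℕ) := [(5, 2, 1), (7, 0, 6), (13, 3, 5), (15, 1, 13), (29, 4, 13), (31, 1, 29), (61, 5, 29), (63, 1, 61), (125, 6, 61), (127, 1, 125), (253, 7, 125), (255, 1, 253), (3, 2, 7), (4, 0, 5), (11, 3, 3), (12, 0, 13), (14, 0, 15), (23, 3, 31), (27, 4, 11), (28, 0, 29), (30, 0, 31), (55, 3, 63), (59, 5, 27), (60, 0, 61), (62, 0, 63), (119, 3, 127), (123, 6, 59), (124, 0, 125), (126, 0, 127), (247, 3, 255), (251, 7, 123), (252, 0, 253), (254, 0, 255), (8, 2, 12), (9, 1, 11), (10, 1, 8), (19, 2, 23), (22, 0, 23), (24, 2, 28), (25, 1, 27), (26, 1, 24), (39, 4, 55), (51, 2, 55), (54, 0, 55), (56, 2, 60),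 (57, 1, 59), (58, 1, 56), (103, 4, 119), (115, 2, 119), (118, 0, 119), (120, 2, 124), (121, 1, 123), (122, 1, 120), (231, 4, 247), (243, 2, 247), (246, 0, 247), (248, 2, 252), (249, 1, 251), (250, 1, 248), (2, 3, 10), (16, 3, 24), (17, 3, 25), (21, 2, 17), (35, 2, 39), (38, 0, 39), (43, 3, 35), (48, 3, 56), (49, 3, 57), (53, 2, 49), (71, 5, 103), (99, 2, 103), (102, 0, 103), (107, 3, 99), (112, 3, 120), (113, 3, 121), (117, 2, 113), (199, 5, 231), (227, 2, 231), (230, 0, 231), (235, 3, 227), (240, 3, 248), (241, 3, 249), (245, 2, 241), (20, 0, 21), (32, 4, 48), (33, 4, 49), (37, 2, 33), (41, 1, 43), (45, 3, 37), (47, 1, 45), (52, 0, 53), (67, 2, 71), (70, 0, 71), (75, 3, 67), (91, 4, 75), (96, 4, 112), (97, 4, 113), (101, 2, 97), (105, 1, 107), (109, 3, 101), (111, 1, 109), (116, 0, 117), (135, 6, 199), (195, 2, 199), (198, 0, 199), (203, 3, 195), (219, 4, 203), (224, 4, 240), (225, 4, 241), (229, 2, 225), (233, 1, 235), (237, 3, 229), (239, 1, 237),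 (244, 0, 245), (36, 0, 37), (44, 0, 45), (46, 0, 47), (64, 5, 96), (65, 5, 97), (69, 2, 65), (73, 1, 75), (77, 3, 69), (79, 1, 77), (89, 1, 91), (93, 4, 77), (95, 1, 93), (100, 0, 101), (108, 0, 109), (110, 0, 111), (131, 2, 135), (134, 0, 135), (139, 3, 131), (155, 4, 139), (187, 5, 155), (192, 5, 224), (193, 5, 225), (197, 2, 193), (201, 1, 203), (205, 3, 197), (207, 1, 205), (217, 1, 219), (221, 4, 205), (223, 1, 221), (228, 0, 229), (236, 0, 237), (238, 0, 239), (40, 2, 44), (42, 1, 40), (68, 0, 69), (76, 0, 77), (78, 0, 79), (81, 3, 89), (85, 2, 81), (87, 3, 95), (92, 0, 93), (94, 0, 95), (104, 2, 108), (106, 1, 104), (128, 6, 192), (129, 6, 193), (133, 2, 129), (137, 1, 139), (141, 3, 133), (143, 1, 141), (153, 1, 155), (157, 4, 141), (159, 1, 157), (185, 1, 187), (189, 5, 157), (191, 1, 189), (196, 0, 197), (204, 0, 205), (206, 0, 207), (209, 3, 217), (213, 2, 209), (215, 3, 223), (220, 0, 221), (222, 0, 223), (232, 2, 236), (234, 1, 232), (34,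 3, 42), (50, 4, 34), (72, 2, 76), (74, 1, 72), (83, 2, 87), (84, 0, 85), (86, 0, 87), (88, 2, 92), (90, 1, 88), (98, 3, 106), (114, 4, 98), (132, 0, 133), (140, 0, 141), (142, 0, 143), (145, 3, 153), (149, 2, 145), (151, 3, 159), (156, 0, 157), (158, 0, 159), (177, 3, 185), (181, 2, 177), (183, 3, 191), (188, 0, 189), (190, 0, 191), (200, 2, 204), (202, 1, 200), (211, 2, 215), (212, 0, 213), (214, 0, 215), (216, 2, 220), (218, 1, 216), (226, 3, 234), (242, 4, 226), (18, 5, 50), (66, 3, 74), (80, 3, 88), (136, 2, 140), (138, 1, 136), (147, 2, 151), (148, 0, 149), (150, 0, 151), (152, 2, 156), (154, 1, 152), (161, 4, 177), (165, 2, 161), (167, 4, 183), (173, 3, 165), (175, 1, 173), (179, 2, 183), (180, 0, 181), (182, 0, 183), (184, 2, 188), (186, 1, 184), (194, 3, 202), (208, 3, 216), (130, 3, 138), (144, 3, 152), (163, 2, 167), (164, 0, 165), (166, 0, 167), (171, 3, 163), (172, 0, 173), (174, 0, 175), (176, 3, 184), (160, 4, 176), (168, 2, 172), (169,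 1, 171), (170, 1, 168), (162, 3, 170), (178, 4, 162), (146, 5, 178), (210, 6, 146), (82, 7, 210)]

end Cfsg.Agent.ChevInv.OrbitE8
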