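import Cfsg.Agent.EqLemmas

/-!
# The two orbits of the Weyl group of F4 on the involutions of the torus
-/

set_option autoImplicit false

namespace Cfsg.Agent.ChevInv.OrbitF4

/-- The vectors of the representatives. -/
def roots : List ℕ := [2, 8]

/-- Steps `(v, i, v')`: the fundamental reflection `i` moves `v` to an earlier vector. -/
def steps : List (ℕ × ℕ × ℕ) := [(3, 0, 2), (12, 2, 8), (14, 1, 12), (15, 0, 14), (1, 1, 3), (4, 3, 12), (6, 1, 4), (7, 0, 6), (10, 2, 14), (11, 0, 10), (9, 1, 11), (13, 2, 9), (5, 3, 13)]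

end Cfsg.Agent.ChevInv.OrbitF4
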